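import Cfsg.Agent.Lib.LargeFischerOuter.Main

/-!
The involution with its class of type M(23), given the centralisers of noncentral involutions (helper79).

* `assemble`
-/

set_option autoImplicit false
open Cfsg

namespace Cfsg.Agent.LargeFischerOuter

open LargeExtraspecial LargeFischer

universe u

set_option maxHeartbeats 1000000 in
/-- The outer involution with a class of type M(23). -/
theorem assemble {X : Type u} [Group X] [Finite X] (G₀ : Subgroup X) (hidx : G₀.index = 2) (z : ↥G₀) (Q : Subgroup (Subgroup.centralizer ({z} : Set ↥G₀))) [Q.Normal] (hF : Cfsg.IsOfLargeFischerTypeAt z Q) (hcentral : ∃ P : Sylow 2 ↥G₀, z ∈ (P : Subgroup ↥G₀) ∧ ∀ x ∈ (P : Subgroup ↥G₀), Commute x z) (hFX : (Cfsg.generalizedFittingSubgroup ↥(Subgroup.centralizer ({(z : X)} : Set X))).map (Subgroup.subtype _) = ((Q.map (Subgroup.subtype _)).map G₀.subtype)) (hcover : ∀ t : ↥G₀, (∃ htc : t ∈ Subgroup.centralizer ({z}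 : Set ↥G₀),
        (⟨t, htc⟩ : Subgroup.centralizer ({z} : Set ↥G₀)) ∈ Q) → orderOf t = 2 → ¬ IsConj z t →
        NoncentralCover t) : ∃ d : X, orderOf d = 2 ∧ d ∉ G₀ ∧ Commute d (z : X) ∧ ∃ t : ↥(G₀ ⊓ Subgroup.centralizer ({d} : Set X)), orderOf t = 2 ∧ Cfsg.IsQuasisimple ↥(Subgroup.centralizer ({t} : Set ↥(G₀ ⊓ Subgroup.centralizer ({d} : Set X)))) ∧ (∃ (_ : ((Subgroup.zpowers t).subgroupOf (Subgroup.centralizer ({t} : Set ↥(G₀ ⊓ Subgroup.centralizer ({d} : Set X))))).Normal), (∃ E : Set (↥(Subgroup.centralizer ({t} : Set ↥(G₀ ⊓ Subgroup.centralizer ({d} : Set X)))) ⧸ (Subgroup.zpowers t).subgroupOf (Subgroup.centralizer ({t} : Set ↥(G₀ ⊓ Subgroup.centralizer ({d} : Set X))))), Cfsg.IsThreeTranspositionClass E ∧ Cfsg.IsOfTypeM22 _ E) ∧ ∃ d' : ↥(Subgroup.centralizer ({t} : Set ↥(G₀ ⊓ Subgroup.centralizer ({d} : Set X)))) ⧸ (Subgroup.zpowers t).subgroupOf (Subgroup.centralizer ({t} : Set ↥(G₀ ⊓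 Subgroup.centralizer ({d} : Set X)))), orderOf d' = 2 ∧ Cfsg.IsQuasisimple ↥(Subgroup.centralizer ({d'} : Set _)) ∧ (∃ (K : Type) (_ : Field K) (_ : Fintype K), Fintype.card K = 4 ∧ ∃ _ : ((Subgroup.zpowers d').subgroupOf (Subgroup.centralizer ({d'} : Set _))).Normal, Nonempty (↥(Subgroup.centralizer ({d'} : Set _)) ⧸ (Subgroup.zpowers d').subgroupOf (Subgroup.centralizer ({d'} : Set _)) ≃* Cfsg.PSU 6 K 2)) ∧ ∃ g, g * d' * g⁻¹ ∈ Subgroup.centralizer ({d'} : Set _) ∧ g * d' * g⁻¹ ≠ d') ∧ (∃ g : ↥(G₀ ⊓ Subgroup.centralizer ({d} : Set X)), g * t * g⁻¹ ∈ Subgroup.centralizer ({t} : Set ↥(G₀ ⊓ Subgroup.centralizer ({d} : Set X))) ∧ g * t * g⁻¹ ≠ t) ∧ Cfsg.IsThreeTranspositionClass (conjugatesOf t) ∧ Cfsg.IsOfTypeM23 ↥(G₀ ⊓ Subgroup.centralizer ({d} : Set X)) (conjugatesOf t) := by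
  have : Fact (Cfsg.IsExtraspecial 2 Q) := ⟨hF.1.2.2.1⟩
  obtain ⟨d, t₀, KX, hdo, hd, hdz, hto, hdt, hKG, hdK, hKt, hKY, hqs, ⟨hn, ⟨eK⟩⟩, g, hgG, hgd, hgc, hgne⟩ :=
    outer_data hidx hF hFX hcentral hcover
  set Y := G₀ ⊓ Subgroup.centralizer ({d} : Set X) with hY
  have hKle : KX ≤ Y := fun k hk => ⟨hKG hk, Subgroup.mem_centralizer_singleton_iff.2 (hdK k hk).symm⟩
  let t : ↥Y := ⟨(t₀ : X), ⟨t₀.2, Subgroup.mem_centralizer_singleton_iff.2 hdt.eq.symm⟩⟩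
  have ht : orderOf t = 2 := by
    rw [← Subgroup.orderOf_coe t]
    exact (Subgroup.orderOf_coe t₀).trans hto
  have hCK : (Subgroup.centralizer ({t} : Set ↥Y)).map Y.subtype = KX := by
    ext x
    constructor
    · rintro ⟨y, hy, rfl⟩
      exact hKY _ y.2.1 (Subgroup.mem_centralizer_singleton_iff.1 y.2.2)
        (congrArg Subtype.val (Subgroup.mem_centralizer_singleton_iff.1 hy))
    · exact fun hx => ⟨⟨x, hKle hx⟩, Subgroup.mem_centralizer_singleton_iff.2 (Subtype.ext (hKt x hx)), rfl⟩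
  let eC : ↥(Subgroup.centralizer ({t} : Set ↥Y)) ≃* ↥KX :=
    (Subgroup.equivMapOfInjective _ Y.subtype Y.subtype_injective).trans (MulEquiv.subgroupCongr hCK)
  have hqsC : Cfsg.IsQuasisimple ↥(Subgroup.centralizer ({t} : Set ↥Y)) :=
    (Components.isQuasisimple_congr eC).2 hqs
  have hnC : ((Subgroup.zpowers t).subgroupOf (Subgroup.centralizer ({t} : Set ↥Y))).Normal := by
    refine ⟨fun x hx w => ?_⟩
    rw [Subgroup.mem_subgroupOf] at hx ⊢
    obtain ⟨k, hk⟩ := Subgroup.mem_zpowers_iff.1 hx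
    refine Subgroup.mem_zpowers_iff.2 ⟨k, ?_⟩
    rw [Subgroup.coe_mul, Subgroup.coe_mul, Subgroup.coe_inv, ← hk,
      ((show Commute (w : ↥Y) t from Subgroup.mem_centralizer_singleton_iff.1 w.2).zpow_right k).eq,
      mul_inv_cancel_right]
  have hmap : ((Subgroup.zpowers t).subgroupOf (Subgroup.centralizer ({t} : Set ↥Y))).map eC.toMonoidHom =
      (Subgroup.zpowers (t₀ : X)).subgroupOf KX := by
    ext x
    obtain ⟨y, rfl⟩ := eC.surjective x
    refine (Subgroup.mem_map_iff_mem (f := eC.toMonoidHom) eC.injective).trans ?_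
    rw [Subgroup.mem_subgroupOf, Subgroup.mem_subgroupOf, Subgroup.mem_zpowers_iff, Subgroup.mem_zpowers_iff]
    constructor <;> rintro ⟨k, hk⟩ <;> refine ⟨k, ?_⟩
    · exact (Subgroup.coe_zpow Y t k).symm.trans (congrArg Subtype.val hk)
    · exact Subtype.ext ((Subgroup.coe_zpow Y t k).trans hk)
  have e22 := (QuotientGroup.congr _ _ eC hmap).trans eK
  obtain ⟨htype, hd'⟩ := witness22 e22
  have hnwc : ∃ w : ↥Y, w * t * w⁻¹ ∈ Subgroup.centralizer ({t} : Set ↥Y) ∧ w * t * w⁻¹ ≠ t :=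
    ⟨⟨g, hgG, Subgroup.mem_centralizer_singleton_iff.2 hgd⟩,
      Subgroup.mem_centralizer_singleton_iff.2 (Subtype.ext hgc.eq), fun h => hgne (congrArg Subtype.val h)⟩
  obtain ⟨B, _, _, DB, SB⟩ := TransCentFi23.model
  obtain ⟨h3, h23, -⟩ := TransCentFi23.main SB t ht hqsC htype hnwc
  exact ⟨d, hdo, hd, hdz, t, ht, hqsC, ⟨hnC, htype, hd'⟩, hnwc, h3, h23⟩

end Cfsg.Agent.LargeFischerOuter
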