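import Cfsg.Agent.Lib.Fi22Aut.Outer
import Cfsg.Agent.Lib.Components.Quasisimple
import Cfsg.Agent.S2079

/-!
An outer element over a double cover of Fi22 acting as an inner element (helper79).

* `Ext`, `Ext.iso`, `Ext.exists_centralizing`
-/

set_option autoImplicit false

namespace Cfsg.Agent.LargeFischerOuter

open Cfsg
open scoped commutatorElement

universe u

/-- A perfect subgroup of index two in a group with the automorphism group of Fi22 as quotient by a central involution,
inside a larger group. -/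
structure Ext (L : Type u) [Group L] (C₀ K : Subgroup L) (t : L) : Prop where
  t_mem : t ∈ K
  t_sq : t * t = 1
  t_ne : t ≠ 1
  t_cent : ∀ x : L, x * t = t * x
  le : K ≤ C₀
  perfect : Group.IsPerfect ↥K
  idx : K.relIndex C₀ = 2
  norm : K.Normal
  cent : ∀ x ∈ C₀, (∀ k ∈ K, x * k = k * x) → x ∈ K
  model : ∃ _ : ((Subgroup.zpowers t).subgroupOf C₀).Normal,
    Nonempty (↥C₀ ⧸ (Subgroup.zpowers t).subgroupOf C₀ ≃* MulAut Cfsg.Spor.Fi22)

variable {L : Type u} [Group L] [Finite L] {C₀ K : Subgroup L} {t : L}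

theorem fi22_simple : IsSimpleGroup Cfsg.Spor.Fi22 := Cfsg.Agent.S1696.main.1

theorem fi22_noncomm : ∃ a b : Cfsg.Spor.Fi22, a * b ≠ b * a := by
  by_contra h
  push Not at h
  have := fi22_simple
  let : CommGroup Cfsg.Spor.Fi22 := { (inferInstance : Group Cfsg.Spor.Fi22) with mul_comm := h }
  have hp : (Nat.card Cfsg.Spor.Fi22).Prime := IsSimpleGroup.prime_card
  rw [show Nat.card Cfsg.Spor.Fi22 = 64561751654400 from Cfsg.Agent.S1696.main.2] at hp
  exact absurd hp (by norm_num)

theorem fi22_conj_injective : Function.Injective (MulAut.conj : Cfsg.Spor.Fi22 →* MulAut Cfsg.Spor.Fi22) := by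
  have := fi22_simple
  rw [← MonoidHom.ker_eq_bot_iff]
  refine (MulAut.conj : Cfsg.Spor.Fi22 →* MulAut Cfsg.Spor.Fi22).normal_ker.eq_bot_or_eq_top.resolve_right fun h => ?_
  obtain ⟨a, b, hab⟩ := fi22_noncomm
  refine hab ?_
  have h1 := MonoidHom.mem_ker.1 (h ▸ Subgroup.mem_top a)
  have h2 : a * b * a⁻¹ = b := congrArg (fun f : MulAut Cfsg.Spor.Fi22 => f b) h1
  exact mul_inv_eq_iff_eq_mul.1 h2

omit [Finite L] in
/-- The subgroup goes onto the inner automorphisms. -/
theorem Ext.iso (E : Ext L C₀ K t) : ∃ _ : ((Subgroup.zpowers t).subgroupOf K).Normal,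
    Nonempty (↥K ⧸ (Subgroup.zpowers t).subgroupOf K ≃* Cfsg.Spor.Fi22) := by
  classical
  obtain ⟨hn, ⟨e⟩⟩ := E.model
  set T := (Subgroup.zpowers t).subgroupOf C₀ with hT
  let f : ↥K →* MulAut Cfsg.Spor.Fi22 :=
    e.toMonoidHom.comp ((QuotientGroup.mk' T).comp (Subgroup.inclusion E.le))
  have hker : f.ker = (Subgroup.zpowers t).subgroupOf K := by
    ext x
    rw [MonoidHom.mem_ker, Subgroup.mem_subgroupOf]
    show e (QuotientGroup.mk' T _) = 1 ↔ _
    rw [EmbeddingLike.map_eq_one_iff, QuotientGroup.mk'_apply, QuotientGroup.eq_one_iff, hT, Subgroup.mem_subgroupOf]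
    rfl
  have hnK : ((Subgroup.zpowers t).subgroupOf K).Normal := hker ▸ f.normal_ker
  set I := (MulAut.conj : Cfsg.Spor.Fi22 →* MulAut Cfsg.Spor.Fi22).range with hI
  have hidx : I.index = 2 := Cfsg.Agent.S2079.result
  have := Subgroup.normal_of_index_eq_two hidx
  have := E.perfect
  have hle : f.range ≤ I := by
    rintro _ ⟨x, rfl⟩
    have hperf : x ∈ commutator ↥K := by rw [Group.IsPerfect.commutator_eq_top]; trivial
    have hc : commutator ↥K ≤ I.comap f := by
      rw [commutator_def, Subgroup.commutator_le]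
      intro a _ b _
      rw [Subgroup.mem_comap, map_commutatorElement]
      have hs : ∀ y : MulAut Cfsg.Spor.Fi22, y ∈ I ↔ y⁻¹ ∈ I := fun y => (inv_mem_iff).symm
      rw [commutatorElement_def, Subgroup.mul_mem_iff_of_index_two hidx, Subgroup.mul_mem_iff_of_index_two hidx,
        Subgroup.mul_mem_iff_of_index_two hidx, ← hs, ← hs]
      tauto
    exact hc hperf
  have hfidx : f.range.index = 2 := by
    have hr : f.range = ((K.subgroupOf C₀).map (QuotientGroup.mk' T)).map e.toMonoidHom := by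
      rw [show f = e.toMonoidHom.comp ((QuotientGroup.mk' T).comp (Subgroup.inclusion E.le)) from rfl,
        MonoidHom.range_comp, MonoidHom.range_comp, Subgroup.inclusion_range]
    rw [hr, show ((K.subgroupOf C₀).map (QuotientGroup.mk' T)).map e.toMonoidHom = ((K.subgroupOf C₀).map (QuotientGroup.mk' T)).map (e : _ →* _) from rfl,
      Subgroup.index_map_equiv, Subgroup.index_map, QuotientGroup.ker_mk', MonoidHom.range_eq_top.2
      (QuotientGroup.mk'_surjective _), Subgroup.index_top, mul_one, sup_of_le_left ?_]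
    · exact E.idx
    · intro y hy
      rw [Subgroup.mem_subgroupOf] at hy ⊢
      exact (Subgroup.zpowers_le.2 E.t_mem) hy
  have hrange : f.range = I := by
    have := Subgroup.relIndex_mul_index hle
    rw [hidx, hfidx] at this
    exact le_antisymm hle (Subgroup.relIndex_eq_one.1 (by omega))
  exact ⟨hnK, ⟨(QuotientGroup.quotientMulEquivOfEq hker.symm).trans ((QuotientGroup.quotientKerEquivRange f).trans
    ((MulEquiv.subgroupCongr hrange).trans (MonoidHom.ofInjective fi22_conj_injective).symm))⟩⟩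

omit [Finite L] in
theorem Ext.tcases (E : Ext L C₀ K t) {x : L} (hx : x ∈ Subgroup.zpowers t) : x = 1 ∨ x = t := by
  obtain ⟨k, rfl⟩ := Subgroup.mem_zpowers_iff.1 hx
  have h2 : t ^ (2 : ℤ) = 1 := by rw [zpow_ofNat, sq, E.t_sq]
  rcases Int.even_or_odd k with ⟨m, rfl⟩ | ⟨m, rfl⟩
  · left; rw [← two_mul, zpow_mul, h2, one_zpow]
  · right; rw [zpow_add, zpow_mul, h2, one_zpow, one_mul, zpow_one]

omit [Finite L] in
theorem Ext.conj_fix (E : Ext L C₀ K t) {x : L} (hx : x ∈ Subgroup.zpowers t) (w : L) : w * x * w⁻¹ = x := by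
  rcases E.tcases hx with rfl | rfl
  · simp
  · rw [E.t_cent, mul_inv_cancel_right]

omit [Finite L] in
/-- An element acting trivially on the quotient centralises the perfect subgroup. -/
theorem Ext.centralizes (E : Ext L C₀ K t) {l : L}
    (h : ∀ x ∈ K, l * x * l⁻¹ * x⁻¹ ∈ Subgroup.zpowers t) : ∀ k ∈ K, l * k = k * l := by
  have := E.perfect
  let f : ↥K →* ↥(Subgroup.zpowers t) :=
    { toFun := fun x => ⟨_, h x x.2⟩
      map_one' := Subtype.ext (by simp)
      map_mul' := fun a b => Subtype.ext (by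
        have hb := E.conj_fix (h b b.2) (a : L)
        show l * ((a : L) * b) * l⁻¹ * ((a : L) * b)⁻¹ =
          l * (a : L) * l⁻¹ * (a : L)⁻¹ * (l * (b : L) * l⁻¹ * (b : L)⁻¹)
        calc l * ((a : L) * b) * l⁻¹ * ((a : L) * b)⁻¹
            = l * (a : L) * l⁻¹ * (a : L)⁻¹ * ((a : L) * (l * (b : L) * l⁻¹ * (b : L)⁻¹) * (a : L)⁻¹) := by
              simp [mul_assoc]
          _ = _ := congrArg (l * (a : L) * l⁻¹ * (a : L)⁻¹ * ·) hb) }
  intro k hk
  have hk0 : f ⟨k, hk⟩ = 1 := by
    have hc : commutator ↥K ≤ f.ker := by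
      rw [commutator_def, Subgroup.commutator_le]
      intro a _ b _
      rw [MonoidHom.mem_ker, map_commutatorElement, commutatorElement_eq_one_iff_mul_comm]
      refine Subtype.ext ?_
      show ((f a : L) * (f b : L)) = (f b : L) * (f a : L)
      have := E.conj_fix (f b).2 (f a : L)
      exact mul_inv_eq_iff_eq_mul.1 this
    exact hc (by rw [Group.IsPerfect.commutator_eq_top]; trivial)
  exact mul_inv_eq_iff_eq_mul.1 (mul_inv_eq_one.1 (congrArg Subtype.val hk0))

omit [Finite L] in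
/-- Only the centre of the subgroup centralises it. -/
theorem Ext.mem_of_cent (E : Ext L C₀ K t) {x : L} (hx : x ∈ C₀) (h : ∀ k ∈ K, x * k = k * x) :
    x ∈ Subgroup.zpowers t := by
  obtain ⟨hnK, ⟨eK⟩⟩ := E.iso
  have hxK := E.cent x hx h
  refine Subgroup.mem_subgroupOf.1 ((QuotientGroup.eq_one_iff (⟨x, hxK⟩ : ↥K)).1 ?_)
  refine eK.injective ((fi22_conj_injective ?_).trans (map_one eK).symm)
  rw [map_one]
  refine MulEquiv.ext fun y => ?_
  obtain ⟨q, rfl⟩ := eK.surjective y
  obtain ⟨w, rfl⟩ := QuotientGroup.mk_surjective q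
  show eK _ * eK _ * (eK _)⁻¹ = eK _
  rw [← map_inv, ← map_mul, ← map_mul, ← QuotientGroup.mk_inv, ← QuotientGroup.mk_mul, ← QuotientGroup.mk_mul]
  congr 2
  refine Subtype.ext ?_
  show x * (w : L) * x⁻¹ = w
  rw [h w w.2, mul_inv_cancel_right]

set_option maxHeartbeats 800000 in
/-- An element outside has a translate centralising the subgroup. -/
theorem Ext.exists_centralizing (E : Ext L C₀ K t) {c : L} (hc : c ∉ C₀) (hidx : C₀.index = 2) :
    ∃ d, d ∉ C₀ ∧ (∀ k ∈ K, d * k = k * d) ∧ (d * d = 1 ∨ d * d = t) := by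
  classical
  have := E.norm
  obtain ⟨hnK, ⟨eK⟩⟩ := E.iso
  obtain ⟨hnC, ⟨eC⟩⟩ := E.model
  let cj : L →* MulAut ↥K := MulAut.conjNormal
  have hinv : ∀ l : L, ((Subgroup.zpowers t).subgroupOf K).map (cj l).toMonoidHom =
      (Subgroup.zpowers t).subgroupOf K := by
    intro l
    refine le_antisymm ?_ fun x hx => ⟨x, hx, ?_⟩
    · rintro _ ⟨x, hx, rfl⟩
      rw [Subgroup.mem_subgroupOf]
      show l * (x : L) * l⁻¹ ∈ _
      rw [E.conj_fix (Subgroup.mem_subgroupOf.1 hx)]
      exact hx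
    · exact Subtype.ext (E.conj_fix (Subgroup.mem_subgroupOf.1 hx) l)
  let A := ↥K ⧸ (Subgroup.zpowers t).subgroupOf K
  let φ : L →* MulAut A :=
    { toFun := fun l => QuotientGroup.congr _ _ (cj l) (hinv l)
      map_one' := by
        refine MulEquiv.ext fun q => ?_
        obtain ⟨x, rfl⟩ := QuotientGroup.mk_surjective q
        show QuotientGroup.mk (cj 1 x) = QuotientGroup.mk x
        rw [map_one]; rfl
      map_mul' := fun a b => by
        refine MulEquiv.ext fun q => ?_
        obtain ⟨x, rfl⟩ := QuotientGroup.mk_surjective q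
        show QuotientGroup.mk (cj (a * b) x) = QuotientGroup.mk (cj a (cj b x))
        rw [map_mul]; rfl }
  have hφ : ∀ l, φ l = 1 → ∀ k ∈ K, l * k = k * l := by
    intro l hl
    refine E.centralizes fun x hx => ?_
    have h : QuotientGroup.mk (cj l ⟨x, hx⟩) = (QuotientGroup.mk ⟨x, hx⟩ : A) :=
      congrArg (fun f : MulAut A => f (QuotientGroup.mk ⟨x, hx⟩)) hl
    rw [QuotientGroup.eq, Subgroup.mem_subgroupOf] at h
    have h' : (l * x * l⁻¹)⁻¹ * x ∈ Subgroup.zpowers t := h
    rw [show l * x * l⁻¹ * x⁻¹ = (x * ((l * x * l⁻¹)⁻¹ * x) * x⁻¹)⁻¹ by group, E.conj_fix h']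
    exact inv_mem h'
  let φ₀ : ↥C₀ →* MulAut A := φ.comp C₀.subtype
  have hk : φ₀.ker = (Subgroup.zpowers t).subgroupOf C₀ := by
    ext x
    rw [MonoidHom.mem_ker, Subgroup.mem_subgroupOf]
    refine ⟨fun h => E.mem_of_cent x.2 (hφ x h), fun h => ?_⟩
    refine MulEquiv.ext fun q => ?_
    obtain ⟨w, rfl⟩ := QuotientGroup.mk_surjective q
    show QuotientGroup.mk (cj (x : L) w) = QuotientGroup.mk w
    congr 1
    refine Subtype.ext ?_
    show (x : L) * w * (x : L)⁻¹ = w
    rcases E.tcases h with e | e <;> rw [e]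
    · simp
    · rw [← E.t_cent, mul_inv_cancel_right]
  have hsurj : Function.Surjective φ₀ := by
    rw [← MonoidHom.range_eq_top]
    have : Finite (MulAut A) := Finite.of_injective _ DFunLike.coe_injective
    refine Subgroup.eq_top_of_card_eq _ ?_
    rw [← Nat.card_congr (QuotientGroup.quotientKerEquivRange φ₀).toEquiv,
      Nat.card_congr ((QuotientGroup.quotientMulEquivOfEq hk).trans eC).toEquiv]
    exact Nat.card_congr (MulAut.congr eK.symm).toEquiv
  obtain ⟨c', hc'⟩ := hsurj (φ c)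
  have hd : (c' : L)⁻¹ * c ∉ C₀ := fun h => hc (by simpa using mul_mem c'.2 h)
  have hd1 : φ ((c' : L)⁻¹ * c) = 1 := by
    rw [map_mul, map_inv, show φ (c' : L) = φ c from hc', inv_mul_cancel]
  exact ⟨_, hd, hφ _ hd1, E.tcases (E.mem_of_cent (Subgroup.mul_self_mem_of_index_two hidx _)
    (hφ _ (by rw [map_mul, hd1, one_mul])))⟩

end Cfsg.Agent.LargeFischerOuter
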