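import Cfsg.Agent.EqLemmas
import Mathlib

/-!
An isometry of twelve-dimensional space fixing almost half of a hyperplane, normalising a scalar (helper79).

* `plane`
-/

set_option autoImplicit false

namespace Cfsg.Agent.LargeFischerOuter

open QuadraticMap

variable {V : Type*} [AddCommGroup V] [Module (ZMod 2) V] [Finite V]

theorem z2_cases (a : ZMod 2) : a = 0 ∨ a = 1 := by revert a; decide

set_option maxHeartbeats 1000000 in
/-- The isometry is of rank two, with axis the given subgroup. -/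
theorem plane (q : QuadraticForm (ZMod 2) V) (hV : Nat.card V = 4096)
    (hnd : ∀ v, (∀ w, polar q v w = 0) → v = 0)
    (n ψ : V ≃ₗ[ZMod 2] V) (hqn : ∀ v, q (n v) = q v) (hqψ : ∀ v, q (ψ v) = q v)
    (hn3 : n ^ 3 = 1) (hfix : ∀ v, n v = v → v = 0) (hψ : ψ ≠ 1) (hnorm : ψ * n * ψ⁻¹ ∈ Subgroup.zpowers n)
    (v0 : V) (hv0 : v0 ≠ 0) (hq0 : q v0 = 0) (W : AddSubgroup V) (hv0W : v0 ∈ W) (hWfix : ∀ w ∈ W, ψ w = w)
    (hWorth : ∀ w ∈ W, polar q w v0 = 0)
    (hWcov : ∀ a b, polar q a v0 = 0 → polar q b v0 = 0 → a ∉ W → b ∉ W → a + b ∈ W) :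
    ψ * n = n * ψ ∧ (∀ v, ψ v = v → v ∈ W) ∧ (∀ w ∈ W, n w ∈ W) ∧ (∃ u, polar q u v0 = 0 ∧ u ∉ W) ∧
      (∀ v r, r ∈ W → polar q r (ψ v + v) = 0) ∧
      (∀ v, (∀ w ∈ W, polar q w v = 0) → (∃ r, ψ r + r = v) ∧ v ∈ W ∧ q v = 0) ∧
      (∀ v, (∀ w ∈ W, polar q w v = 0) → v = 0 ∨ v = v0 ∨ v = n v0 ∨ v = n (n v0)) ∧
      (∀ χ : V ≃ₗ[ZMod 2] V, (∀ v, q (χ v) = q v) → χ * n = n * χ → (∀ w ∈ W, χ w = w) → χ ≠ 1 → χ = ψ) := by
  classical
  have hpn : ∀ a b, polar q (n a) (n b) = polar q a b := fun a b => by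
    unfold polar; rw [← map_add, hqn, hqn, hqn]
  have hpψ : ∀ a b, polar q (ψ a) (ψ b) = polar q a b := fun a b => by
    unfold polar; rw [← map_add, hqψ, hqψ, hqψ]
  have hn3' : ∀ v, n (n (n v)) = v := fun v => by
    have := congrArg (fun f : V ≃ₗ[ZMod 2] V => f v) hn3
    simpa [pow_succ, LinearEquiv.mul_apply] using this
  have hsum : ∀ v, n (n v) = v + n v := fun v => by
    have h0 : v + n v + n (n v) = 0 := hfix _ (by rw [map_add, map_add, hn3']; abel)
    exact (eq_neg_of_add_eq_zero_right h0).trans (ZModModule.neg_eq_self _)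
  -- the hyperplane
  let Bv : V →+ ZMod 2 := AddMonoidHom.mk' (fun v => polar q v v0) fun a b => polar_add_left (Q := q) a b v0
  have hBv : Function.Surjective Bv := by
    intro a
    rcases z2_cases a with rfl | rfl
    · exact ⟨0, map_zero _⟩
    · by_contra h
      push Not at h
      exact hv0 (hnd v0 fun w => by rw [polar_comm]; exact (z2_cases _).resolve_right (h w))
  have hH : Nat.card Bv.ker = 2048 := by
    have h := AddSubgroup.card_eq_card_quotient_mul_card_addSubgroup Bv.ker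
    rw [Nat.card_congr (QuotientAddGroup.quotientKerEquivOfSurjective Bv hBv).toEquiv, hV, Nat.card_zmod] at h
    omega
  have hW1 : 1024 ≤ Nat.card W := by
    by_cases hex : ∃ u, polar q u v0 = 0 ∧ u ∉ W
    · obtain ⟨u, hu, huW⟩ := hex
      have hs : Function.Surjective (fun x : ↥W × Bool =>
          (⟨if x.2 then u + x.1 else x.1, by
            split_ifs
            · exact Bv.ker.add_mem hu (hWorth _ x.1.2)
            · exact hWorth _ x.1.2⟩ : Bv.ker)) := by
        rintro ⟨a, ha⟩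
        by_cases haW : a ∈ W
        · exact ⟨(⟨a, haW⟩, false), rfl⟩
        · refine ⟨(⟨u + a, hWcov u a hu ha huW haW⟩, true), Subtype.ext ?_⟩
          show u + (u + a) = a
          rw [← add_assoc, ZModModule.add_self, zero_add]
      have := Nat.card_le_card_of_surjective _ hs
      rw [hH, Nat.card_prod, show Nat.card Bool = 2 by simp] at this
      omega
    · push Not at hex
      have : Bv.ker ≤ W := fun a ha => hex a ha
      have := AddSubgroup.card_le_of_le this
      omega
  -- the scalar commutes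
  have hcomm : ψ * n = n * ψ := by
    obtain ⟨k, hk : n ^ k = ψ * n * ψ⁻¹⟩ := hnorm
    have h3 : n ^ (3 : ℤ) = 1 := by rw [show (3 : ℤ) = ((3 : ℕ) : ℤ) from rfl, zpow_natCast, hn3]
    have hk3 : n ^ k = n ^ (k % 3) := by
      conv_lhs => rw [← Int.emod_add_mul_ediv k 3, zpow_add, zpow_mul, h3, one_zpow, mul_one]
    have hr : k % 3 = 0 ∨ k % 3 = 1 ∨ k % 3 = 2 := by omega
    rw [hk3] at hk
    rcases hr with hr | hr | hr <;> rw [hr] at hk
    · exfalso
      rw [zpow_zero] at hk
      have : n = 1 := by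
        have h := hk.symm
        rwa [mul_inv_eq_one, mul_eq_left] at h
      exact hv0 (hfix v0 (by rw [this]; rfl))
    · rw [zpow_one] at hk
      exact (mul_inv_eq_iff_eq_mul.1 hk.symm)
    · exfalso
      have hrel : ∀ v, ψ (n v) = n (n (ψ v)) := fun v => by
        have := congrArg (fun f : V ≃ₗ[ZMod 2] V => f (ψ v)) hk
        simpa [zpow_ofNat, pow_succ, LinearEquiv.mul_apply] using this.symm
      have hinj : Function.Injective (fun p : ↥W × ↥W => (p.1 : V) + n p.2) := by
        rintro ⟨a, b⟩ ⟨c, d⟩ h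
        have e : ((a - c : ↥W) : V) = n ((d - b : ↥W) : V) := by
          show (a : V) - c = n ((d : V) - b)
          rw [map_sub, sub_eq_sub_iff_add_eq_add]
          exact h.trans (add_comm _ _)
        have e1 : ψ (n ((d - b : ↥W) : V)) = n ((d - b : ↥W) : V) := by rw [← e]; exact hWfix _ (a - c).2
        rw [hrel, hWfix _ (d - b).2] at e1
        have h0 := hfix _ (n.injective e1)
        have hdb : d = b := sub_eq_zero.1 (Subtype.ext h0)
        rw [h0, map_zero] at e
        exact Prod.ext (sub_eq_zero.1 (Subtype.ext e)) hdb.symm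
      have hc := Nat.card_le_card_of_injective _ hinj
      rw [Nat.card_prod, hV] at hc
      have : 1024 * 1024 ≤ 4096 := (Nat.mul_le_mul hW1 hW1).trans hc
      omega
  have hcm : ∀ v, ψ (n v) = n (ψ v) := fun v => congrArg (fun f : V ≃ₗ[ZMod 2] V => f v) hcomm
  -- the axis
  let F : AddSubgroup V := (AddMonoidHom.mk' (fun v => ψ v + v) fun a b => by rw [map_add]; abel).ker
  have hF : ∀ v, v ∈ F ↔ ψ v = v := fun v => by
    show ψ v + v = 0 ↔ _
    rw [add_eq_zero_iff_eq_neg, ZModModule.neg_eq_self]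
  have hWF : W ≤ F := fun w hw => (hF w).2 (hWfix w hw)
  have hnF : ∀ v ∈ F, n v ∈ F := fun v hv => (hF _).2 (by rw [hcm, (hF v).1 hv])
  have hFne : F ≠ ⊤ := fun h => hψ (LinearEquiv.ext fun v => (hF v).1 (h ▸ AddSubgroup.mem_top v))
  obtain ⟨w1, hw1⟩ : ∃ w1, w1 ∉ F := by
    by_contra h
    push Not at h
    exact hFne (eq_top_iff.2 fun v _ => h v)
  have hnw : n w1 ∉ F := fun h => by
    have := hnF _ (hnF _ h)
    rw [hn3'] at this
    exact hw1 this
  have hnw2 : w1 + n w1 ∉ F := fun h => by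
    rw [← hsum] at h
    have := hnF _ h
    rw [hn3'] at this
    exact hw1 this
  -- four cosets
  have hinj : Function.Injective (fun p : ↥F × Bool × Bool =>
      (p.1 : V) + ((if p.2.1 then w1 else 0) + (if p.2.2 then n w1 else 0))) := by
    rintro ⟨a, b, c⟩ ⟨a', b', c'⟩ h
    have hg : ((if b then w1 else 0) + (if c then n w1 else 0)) + ((if b' then w1 else 0) + (if c' then n w1 else 0)) =
        ((if Bool.xor b b' then w1 else 0) + (if Bool.xor c c' then n w1 else 0)) := by
      rw [add_add_add_comm]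
      rcases b <;> rcases c <;> rcases b' <;> rcases c' <;> simp [ZModModule.add_self]
    have key : ((if Bool.xor b b' then w1 else 0) + (if Bool.xor c c' then n w1 else 0)) ∈ F := by
      have e : ∀ x y G G' : V, x + G = y + G' → G + G' = x + y := fun x y G G' h => by
        calc G + G' = x + (x + G) + G' := by rw [← add_assoc x x, ZModModule.add_self, zero_add]
          _ = x + y + (G' + G') := by rw [h]; abel
          _ = x + y := by rw [ZModModule.add_self, add_zero]
      rw [← hg, e _ _ _ _ h]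
      exact F.add_mem a.2 a'.2
    have hbc : b = b' ∧ c = c' := by
      cases hx : Bool.xor b b' <;> cases hy : Bool.xor c c' <;> rw [hx, hy] at key <;>
        simp only [if_true, if_false, Bool.false_eq_true, add_zero, zero_add] at key
      · revert hx hy; cases b <;> cases b' <;> cases c <;> cases c' <;> simp
      · exact absurd key hnw
      · exact absurd key hw1
      · exact absurd key hnw2
    obtain ⟨rfl, rfl⟩ := hbc
    exact Prod.ext (Subtype.ext (add_right_cancel h)) rfl
  have hcF : Nat.card F = 1024 ∧ ∀ v, ∃ p : ↥F × Bool × Bool,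
      (p.1 : V) + ((if p.2.1 then w1 else 0) + (if p.2.2 then n w1 else 0)) = v := by
    have h1 := Nat.card_le_card_of_injective _ hinj
    have h2 := AddSubgroup.card_le_of_le hWF
    simp only [Nat.card_prod, show Nat.card Bool = 2 by simp, hV] at h1
    have hc : Nat.card F = 1024 := by omega
    refine ⟨hc, fun v => ?_⟩
    exact (hinj.bijective_of_nat_card_le (by simp only [Nat.card_prod, show Nat.card Bool = 2 by simp, hV]; omega)).2 v
  have hWeq : W = F := by
    refine SetLike.coe_injective (Set.eq_of_subset_of_ncard_le hWF ?_ (Set.toFinite _))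
    rw [← Nat.card_coe_set_eq, ← Nat.card_coe_set_eq]
    exact hcF.1.le.trans hW1
  subst hWeq
  refine ⟨hcomm, fun v hv => (hF v).2 hv, hnF, ?_, ?_, ?_⟩
  · by_contra h
    push Not at h
    have := AddSubgroup.card_le_of_le (show Bv.ker ≤ F from fun a ha => h a ha)
    omega
  · intro v r hr
    rw [polar_add_right]
    conv_lhs => arg 1; rw [← (hF r).1 hr, hpψ]
    exact ZModModule.add_self _
  -- the orthogonal plane
  let S : Set V := {v | ∀ w ∈ F, polar q w v = 0}
  have hS : ∀ a ∈ S, ∀ b ∈ S, polar q w1 a = polar q w1 b → polar q (n w1) a = polar q (n w1) b → a = b := by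
    intro a ha b hb e1 e2
    rw [← sub_eq_zero]
    refine hnd _ fun w => ?_
    obtain ⟨⟨f, x, y⟩, rfl⟩ := hcF.2 w
    rw [polar_comm, polar_sub_right, sub_eq_zero]
    simp only [polar_add_left, ha _ f.2, hb _ f.2]
    rcases x <;> rcases y <;> simp [e1, e2]
  have hS4 : S.ncard ≤ 4 := by
    have := Nat.card_le_card_of_injective (fun a : S => (polar q w1 (a : V), polar q (n w1) (a : V)))
      fun a b h => Subtype.ext (hS _ a.2 _ b.2 (congrArg Prod.fst h) (congrArg Prod.snd h))
    rwa [Nat.card_prod, Nat.card_zmod, Nat.card_coe_set_eq] at this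
  have hv0S : v0 ∈ S := hWorth
  have hnS : ∀ a ∈ S, n a ∈ S := fun a ha w hw => by
    rw [← hn3' w, hpn]
    exact ha _ (hnF _ (hnF _ hw))
  have e1 : v0 ≠ n v0 := fun h => hv0 (hfix _ h.symm)
  have e2 : n v0 ≠ n (n v0) := fun h => e1 (n.injective h)
  have e3 : v0 ≠ n (n v0) := fun h => e1 (((congrArg n h).trans (hn3' _)).symm)
  have e4 : n v0 ≠ 0 := fun h => hv0 (n.injective (h.trans (map_zero n).symm))
  have e5 : n (n v0) ≠ 0 := fun h => e4 (n.injective (h.trans (map_zero n).symm))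
  have hSeq : ({0, v0, n v0, n (n v0)} : Set V) = S := by
    refine Set.eq_of_subset_of_ncard_le ?_ ?_ (Set.toFinite _)
    · intro a ha
      rcases ha with rfl | rfl | rfl | rfl
      exacts [fun w _ => polar_zero_right q w, hv0S, hnS _ hv0S, hnS _ (hnS _ hv0S)]
    · rw [Set.ncard_insert_of_notMem (by simp [hv0.symm, e4.symm, e5.symm]),
        Set.ncard_insert_of_notMem (by simp [e1, e3]), Set.ncard_pair e2]
      exact hS4
  have hcom : ∀ r, ψ r + r ∈ S := fun r w hw => by
    rw [polar_add_right]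
    conv_lhs => arg 1; rw [← (hF w).1 hw, hpψ]
    exact ZModModule.add_self _
  have hperp0 : ∀ v ∈ S, q v = 0 := fun v hv => by
    have hv' : v ∈ ({0, v0, n v0, n (n v0)} : Set V) := hSeq ▸ hv
    rcases hv' with rfl | rfl | rfl | rfl
    exacts [QuadraticMap.map_zero q, hq0, (hqn _).trans hq0, (hqn _).trans ((hqn _).trans hq0)]
  -- only one isometry of this kind
  have key : ∀ χ : V ≃ₗ[ZMod 2] V, (∀ v, q (χ v) = q v) → χ * n = n * χ → (∀ w ∈ F, χ w = w) → χ ≠ 1 →
      χ w1 + w1 ∈ S ∧ polar q w1 (χ w1 + w1) = 0 ∧ χ w1 + w1 ≠ 0 := by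
    intro χ hq hc hfW hne
    have hcm' : ∀ v, χ (n v) = n (χ v) := fun v => congrArg (fun f : V ≃ₗ[ZMod 2] V => f v) hc
    have hin : χ w1 + w1 ∈ S := fun w hw => by
      have hp : polar q (χ w) (χ w1) = polar q w w1 := by unfold polar; rw [← map_add, hq, hq, hq]
      rw [hfW w hw] at hp
      rw [polar_add_right, hp, ZModModule.add_self]
    refine ⟨hin, ?_, fun h0 => hne (LinearEquiv.ext fun v => ?_)⟩
    · have h1 := QuadraticMap.map_add (⇑q) w1 (χ w1 + w1)
      rw [hperp0 _ hin, add_zero, add_comm (χ w1), ← add_assoc, ZModModule.add_self, zero_add, hq,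
        left_eq_add] at h1
      rwa [add_comm]
    · have hfix1 : χ w1 = w1 := by
        rw [← sub_eq_zero, ZModModule.sub_eq_add]; exact h0
      obtain ⟨⟨f, x, y⟩, rfl⟩ := hcF.2 v
      show χ _ = _
      rw [map_add, map_add, hfW _ f.2]
      rcases x <;> rcases y <;> simp [hcm', hfix1]
  refine ⟨fun v hv => ?_, fun v hv => ?_, fun χ hq hc hfW hne => ?_⟩
  pick_goal 2
  · have hv' : v ∈ ({0, v0, n v0, n (n v0)} : Set V) := hSeq ▸ (show v ∈ S from hv)
    exact hv'
  pick_goal 2
  · obtain ⟨a1, a2, a3⟩ := key χ hq hc hfW hne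
    obtain ⟨b1, b2, b3⟩ := key ψ hqψ hcomm hWfix hψ
    have hn1 : ∀ a ∈ S, polar q w1 a = 0 → a ≠ 0 → polar q (n w1) a = 1 := fun a ha h1 h0 =>
      (z2_cases _).resolve_left fun h2 => h0 (hS a ha 0 (fun w _ => polar_zero_right q w)
        (by rw [h1, polar_zero_right]) (by rw [h2, polar_zero_right]))
    have he : χ w1 = ψ w1 := add_right_cancel
      (hS _ a1 _ b1 (a2.trans b2.symm) ((hn1 _ a1 a2 a3).trans (hn1 _ b1 b2 b3).symm))
    have hc' : ∀ v, χ (n v) = n (χ v) := fun v => congrArg (fun f : V ≃ₗ[ZMod 2] V => f v) hc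
    refine LinearEquiv.ext fun v => ?_
    obtain ⟨⟨f, x, y⟩, rfl⟩ := hcF.2 v
    rw [map_add, map_add, map_add, map_add, hfW _ f.2, hWfix _ f.2]
    rcases x <;> rcases y <;> simp [hc', hcm, he]
  have hv' : v ∈ ({0, v0, n v0, n (n v0)} : Set V) := hSeq ▸ (show v ∈ S from hv)
  refine ⟨?_, ?_, ?_⟩
  · have hstep : ∀ a, (∃ r, ψ r + r = a) → ∃ r, ψ r + r = n a := by
      rintro a ⟨r, rfl⟩
      exact ⟨n r, by rw [hcm, map_add]⟩
    have hv0r : ∃ r, ψ r + r = v0 := by
      obtain ⟨r, hr⟩ : ∃ r, ψ r + r ≠ 0 := ⟨w1, fun h => hw1 h⟩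
      have hr' : ψ r + r ∈ ({0, v0, n v0, n (n v0)} : Set V) := hSeq ▸ hcom r
      rcases hr' with h | h | h | h
      · exact absurd h hr
      · exact ⟨r, h⟩
      · have := hstep _ (hstep _ ⟨r, h⟩); rwa [hn3'] at this
      · have := hstep _ ⟨r, h⟩; rwa [hn3'] at this
    rcases hv' with rfl | rfl | rfl | rfl
    · exact ⟨0, by simp⟩
    · exact hv0r
    · exact hstep _ hv0r
    · exact hstep _ (hstep _ hv0r)
  · rcases hv' with rfl | rfl | rfl | rfl
    exacts [F.zero_mem, hv0W, hnF _ hv0W, hnF _ (hnF _ hv0W)]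
  · rcases hv' with rfl | rfl | rfl | rfl
    exacts [QuadraticMap.map_zero q, hq0, (hqn _).trans hq0, (hqn _).trans ((hqn _).trans hq0)]

end Cfsg.Agent.LargeFischerOuter
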