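import Cfsg.Agent.Lib.LargeFischerOuter.Outer

/-!
The outer involution and its centraliser inside the group (helper79).

* `NoncentralCover`, `local_main`
-/

set_option autoImplicit false
open Cfsg
open scoped commutatorElement

namespace Cfsg.Agent.LargeFischerOuter

open LargeExtraspecial LargeFischer

universe u

variable {X : Type u} [Group X] [Finite X] {G₀ : Subgroup X}

/-- The conclusion on the centraliser of a noncentral involution. -/
def NoncentralCover {G : Type u} [Group G] (t : G) : Prop :=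
  Cfsg.IsQuasisimple ↥(Cfsg.generalizedFittingSubgroup ↥(Subgroup.centralizer ({t} : Set G))) ∧
    (Cfsg.generalizedFittingSubgroup ↥(Subgroup.centralizer ({t} : Set G))).index = 2 ∧
    (∃ htc : t ∈ Subgroup.centralizer ({t} : Set G), (⟨t, htc⟩ : ↥(Subgroup.centralizer ({t} : Set G))) ∈
      Cfsg.generalizedFittingSubgroup ↥(Subgroup.centralizer ({t} : Set G))) ∧
    ∃ _ : ((Subgroup.zpowers t).subgroupOf (Subgroup.centralizer ({t} : Set G))).Normal,
      Nonempty (↥(Subgroup.centralizer ({t} : Set G)) ⧸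
        (Subgroup.zpowers t).subgroupOf (Subgroup.centralizer ({t} : Set G)) ≃* MulAut Cfsg.Spor.Fi22)

/-- The cover inside the larger group. -/
def coverX (t : ↥G₀) : Subgroup X :=
  (Cfsg.generalizedFittingSubgroup ↥(Subgroup.centralizer ({t} : Set ↥G₀))).map
    (G₀.subtype.comp (Subgroup.centralizer ({t} : Set ↥G₀)).subtype)

/-- An element outside centralising the cover, and the quotient of the cover. -/
theorem cover_data (hidx : G₀.index = 2) (t : ↥G₀) (ht : orderOf t = 2) (h : NoncentralCover t)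
    {c : X} (hc : c ∉ G₀) (hct : c * (t : X) = (t : X) * c) :
    coverX t ≤ G₀ ∧ (t : X) ∈ coverX t ∧ Cfsg.IsQuasisimple ↥(coverX t) ∧
      (∀ k ∈ coverX t, k * (t : X) = (t : X) * k) ∧
      (∀ a b : X, a ∈ G₀ → b ∈ G₀ → a * (t : X) = (t : X) * a → b * (t : X) = (t : X) * b →
        a ∉ coverX t → b ∉ coverX t → a * b ∈ coverX t) ∧
      (∀ a b : X, a ∈ G₀ → b ∈ G₀ → a * (t : X) = (t : X) * a → b * (t : X) = (t : X) * b →
        ⁅a, b⁆ ∈ coverX t) ∧
      (∃ _ : ((Subgroup.zpowers (t : X)).subgroupOf (coverX t)).Normal,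
        Nonempty (↥(coverX t) ⧸ (Subgroup.zpowers (t : X)).subgroupOf (coverX t) ≃* Cfsg.Spor.Fi22)) ∧
      ∃ d, d ∉ G₀ ∧ (∀ k ∈ coverX t, d * k = k * d) ∧ (d * d = 1 ∨ d * d = (t : X)) := by
  classical
  obtain ⟨hqs, hidxK, ⟨htc, htK⟩, hnorm, ⟨e⟩⟩ := h
  set C := Subgroup.centralizer ({t} : Set ↥G₀) with hC
  set K := Cfsg.generalizedFittingSubgroup ↥C with hK
  set ι : ↥C →* X := G₀.subtype.comp C.subtype with hι
  have hι' : Function.Injective ι := G₀.subtype_injective.comp C.subtype_injective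
  have hmem : ∀ a : X, ∀ ha : a ∈ G₀, a * (t : X) = (t : X) * a → (⟨a, ha⟩ : ↥G₀) ∈ C := fun a ha hat =>
    Subgroup.mem_centralizer_singleton_iff.2 (Subtype.ext hat)
  have hKG : coverX t ≤ G₀ := by rintro _ ⟨k, -, rfl⟩; exact (k : ↥G₀).2
  have hKt : ∀ k ∈ coverX t, k * (t : X) = (t : X) * k := by
    rintro _ ⟨k, -, rfl⟩
    exact congrArg Subtype.val (Subgroup.mem_centralizer_singleton_iff.1 k.2)
  have htX : (t : X) ∈ coverX t := ⟨⟨t, htc⟩, htK, rfl⟩
  have hmemK : ∀ a : ↥C, ι a ∈ coverX t ↔ a ∈ K := fun a =>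
    Subgroup.mem_map_iff_mem (f := ι) hι'
  have hqsX : Cfsg.IsQuasisimple ↥(coverX t) :=
    (Components.isQuasisimple_congr (Subgroup.equivMapOfInjective K ι hι')).1 hqs
  set L := Subgroup.centralizer ({(t : X)} : Set X) with hL
  have htL : (t : X) ∈ L := Subgroup.mem_centralizer_singleton_iff.2 rfl
  have hKL : coverX t ≤ L := fun k hk => Subgroup.mem_centralizer_singleton_iff.2 (hKt k hk)
  have hcL : c ∈ L := Subgroup.mem_centralizer_singleton_iff.2 hct
  have := Subgroup.normal_of_index_eq_two hidx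
  have hC0 : (G₀.subgroupOf L).index = 2 := by
    have h1 : G₀.relIndex L ∣ 2 := hidx ▸ Subgroup.relIndex_dvd_index_of_normal G₀ L
    rcases (Nat.dvd_prime Nat.prime_two).1 h1 with h2 | h2
    · exact absurd (Subgroup.relIndex_eq_one.1 h2 hcL) hc
    · exact h2
  let j : ↥C →* ↥L := ι.codRestrict L fun a => Subgroup.mem_centralizer_singleton_iff.2
    (congrArg Subtype.val (Subgroup.mem_centralizer_singleton_iff.1 a.2))
  have hj : Function.Injective j := fun a b hab => hι' (congrArg Subtype.val hab :)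
  have hrange : j.range = G₀.subgroupOf L := by
    ext x
    rw [Subgroup.mem_subgroupOf]
    refine ⟨?_, fun hx => ⟨⟨⟨x, hx⟩, hmem _ hx (Subgroup.mem_centralizer_singleton_iff.1 x.2)⟩, Subtype.ext rfl⟩⟩
    rintro ⟨a, rfl⟩
    exact (a : ↥G₀).2
  set K' := (coverX t).subgroupOf L with hK'
  have hmapK : K.map j = K' := by
    ext x
    rw [hK', Subgroup.mem_subgroupOf]
    constructor
    · rintro ⟨a, ha, rfl⟩; exact ⟨a, ha, rfl⟩
    · rintro ⟨a, ha, he⟩; exact ⟨a, ha, Subtype.ext he⟩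
  have E : Ext ↥L (G₀.subgroupOf L) K' ⟨t, htL⟩ := by
    refine ⟨htX, Subtype.ext ?_, fun e1 => ?_, fun x => Subtype.ext (Subgroup.mem_centralizer_singleton_iff.1 x.2),
      fun x hx => hKG hx, ?_, ?_, ?_, ?_, ?_⟩
    · show (t : X) * t = 1
      rw [← sq, ← SubgroupClass.coe_pow, ← ht, pow_orderOf_eq_one, Subgroup.coe_one]
    · rw [show t = 1 from Subtype.ext (congrArg Subtype.val e1 : (t : X) = 1), orderOf_one] at ht
      omega
    · have := hqsX.1
      exact Group.IsPerfect.ofSurjective (f := (Subgroup.subgroupOfEquivOfLe hKL).symm.toMonoidHom)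
        (Subgroup.subgroupOfEquivOfLe hKL).symm.surjective
    · rw [← hmapK, ← hrange, MonoidHom.range_eq_map, Subgroup.relIndex_map_map_of_injective _ _ hj,
        Subgroup.relIndex_top_right, hidxK]
    · refine ⟨fun x hx l => ?_⟩
      rw [hK', Subgroup.mem_subgroupOf] at hx ⊢
      obtain ⟨a, ha, hax⟩ := hx
      have hlt : (l : X) * (t : X) = (t : X) * l := Subgroup.mem_centralizer_singleton_iff.1 l.2
      let f : ↥G₀ ≃* ↥G₀ := MulAut.conjNormal (l : X)
      have hft : f t = t := Subtype.ext (by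
        show (l : X) * t * (l : X)⁻¹ = t
        rw [hlt, mul_inv_cancel_right])
      have hmap : C.map (f : ↥G₀ →* ↥G₀) = C := by
        ext y
        rw [show y ∈ C.map (f : ↥G₀ →* ↥G₀) ↔ f.symm y ∈ C from Subgroup.mem_map_equiv, hC, Subgroup.mem_centralizer_singleton_iff, Subgroup.mem_centralizer_singleton_iff,
          ← f.apply_eq_iff_eq, map_mul, map_mul, f.apply_symm_apply, hft]
      let fC : ↥C ≃* ↥C := (f.subgroupMap C).trans (MulEquiv.subgroupCongr hmap)
      have hfK := Symplectic.generalizedFitting_map_equiv fC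
      refine ⟨fC a, hfK ▸ Subgroup.mem_map_of_mem _ ha, ?_⟩
      show (l : X) * (a : ↥G₀) * (l : X)⁻¹ = (l : X) * (x : X) * (l : X)⁻¹
      rw [← show ι a = (x : X) from hax]
      rfl
    · intro x hx hall
      rw [Subgroup.mem_subgroupOf] at hx
      rw [hK', Subgroup.mem_subgroupOf]
      set a : ↥C := ⟨⟨x, hx⟩, hmem _ hx (Subgroup.mem_centralizer_singleton_iff.1 x.2)⟩
      refine (hmemK a).2 (Symplectic.centralizer_generalizedFitting_le _ ?_)
      refine Subgroup.mem_centralizer_iff.2 fun k hk => hι' ?_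
      rw [map_mul, map_mul]
      exact (congrArg Subtype.val (hall ⟨ι k, hKL ((hmemK k).2 hk)⟩ ((hmemK k).2 hk))).symm
    · let eC : ↥C ≃* ↥(G₀.subgroupOf L) := (MonoidHom.ofInjective hj).trans (MulEquiv.subgroupCongr hrange)
      have hn : ((Subgroup.zpowers (⟨t, htL⟩ : ↥L)).subgroupOf (G₀.subgroupOf L)).Normal := by
        refine ⟨fun x hx g => ?_⟩
        rw [Subgroup.mem_subgroupOf] at hx ⊢
        obtain ⟨k, hk⟩ := Subgroup.mem_zpowers_iff.1 hx
        refine Subgroup.mem_zpowers_iff.2 ⟨k, ?_⟩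
        have hcm : Commute (g : ↥L) (⟨t, htL⟩ : ↥L) :=
          Subtype.ext (Subgroup.mem_centralizer_singleton_iff.1 (g : ↥L).2)
        rw [Subgroup.coe_mul, Subgroup.coe_mul, Subgroup.coe_inv, ← hk, (hcm.zpow_right k).eq, mul_inv_cancel_right]
      refine ⟨hn, ⟨(QuotientGroup.congr _ _ eC ?_).symm.trans e⟩⟩
      ext x
      obtain ⟨y, rfl⟩ := eC.surjective x
      refine (Subgroup.mem_map_iff_mem (f := eC.toMonoidHom) eC.injective).trans ?_
      rw [Subgroup.mem_subgroupOf, Subgroup.mem_subgroupOf, Subgroup.mem_zpowers_iff, Subgroup.mem_zpowers_iff]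
      constructor <;> rintro ⟨k, hk⟩ <;> refine ⟨k, ?_⟩
      · refine Subtype.ext ?_
        rw [Subgroup.coe_zpow]
        show (t : X) ^ k = ι y
        rw [hι, MonoidHom.comp_apply, show C.subtype y = t ^ k from hk.symm, map_zpow]
        rfl
      · refine Subtype.ext ?_
        rw [Subgroup.coe_zpow]
        exact (Subgroup.coe_zpow L _ k).symm.trans (congrArg Subtype.val hk)
  obtain ⟨hn', ⟨eK⟩⟩ := E.iso
  obtain ⟨d, hd, hdK, hd2⟩ := E.exists_centralizing (c := ⟨c, hcL⟩) (by rwa [Subgroup.mem_subgroupOf]) hC0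
  refine ⟨hKG, htX, hqsX, hKt, ?_, ?_, ?_, (d : X), ?_, fun k hk =>
    congrArg Subtype.val (hdK ⟨k, hKL hk⟩ hk), hd2.imp (congrArg Subtype.val) (congrArg Subtype.val)⟩
  · intro a b ha hb hat hbt hna hnb
    refine (hmemK (⟨⟨a, ha⟩, hmem a ha hat⟩ * ⟨⟨b, hb⟩, hmem b hb hbt⟩)).2 ?_
    rw [Subgroup.mul_mem_iff_of_index_two hidxK, ← hmemK, ← hmemK]
    exact iff_of_false hna hnb
  · intro a b ha hb hat hbt
    have h1 : ⁅(⟨⟨a, ha⟩, hmem a ha hat⟩ : ↥C), ⟨⟨b, hb⟩, hmem b hb hbt⟩⁆ ∈ K := by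
      simp only [commutatorElement_def, Subgroup.mul_mem_iff_of_index_two hidxK, inv_mem_iff]
      tauto
    exact (hmemK _).2 h1
  · have hle : Subgroup.zpowers (⟨t, htL⟩ : ↥L) ≤ K' := Subgroup.zpowers_le.2 htX
    let eS : ↥(coverX t) ≃* ↥K' := (Subgroup.subgroupOfEquivOfLe hKL).symm
    have hz : ((Subgroup.zpowers (t : X)).subgroupOf (coverX t)).map eS.toMonoidHom =
        (Subgroup.zpowers (⟨t, htL⟩ : ↥L)).subgroupOf K' := by
      ext x
      obtain ⟨y, rfl⟩ := eS.surjective x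
      refine (Subgroup.mem_map_iff_mem (f := eS.toMonoidHom) eS.injective).trans ?_
      rw [Subgroup.mem_subgroupOf, Subgroup.mem_subgroupOf, Subgroup.mem_zpowers_iff, Subgroup.mem_zpowers_iff]
      constructor <;> rintro ⟨k, hk⟩ <;> refine ⟨k, ?_⟩
      · exact Subtype.ext ((Subgroup.coe_zpow L _ k).trans hk)
      · exact (Subgroup.coe_zpow L _ k).symm.trans (congrArg Subtype.val hk)
    have hnX : ((Subgroup.zpowers (t : X)).subgroupOf (coverX t)).Normal := by
      refine ⟨fun x hx g => ?_⟩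
      rw [Subgroup.mem_subgroupOf] at hx ⊢
      obtain ⟨k, hk⟩ := Subgroup.mem_zpowers_iff.1 hx
      refine Subgroup.mem_zpowers_iff.2 ⟨k, ?_⟩
      rw [Subgroup.coe_mul, Subgroup.coe_mul, Subgroup.coe_inv, ← hk,
        ((show Commute (g : X) (t : X) from hKt _ g.2).zpow_right k).eq, mul_inv_cancel_right]
    exact ⟨hnX, ⟨(QuotientGroup.congr _ _ eS hz).trans eK⟩⟩
  · exact fun h => hd (Subgroup.mem_subgroupOf.2 h)

end Cfsg.Agent.LargeFischerOuter
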