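import Cfsg.Agent.Lib.Fi22U62.Transpositions
import Cfsg.Agent.Lib.Fi22Aut.Outer
import Cfsg.Agent.Lib.FischerExist.M22
import Cfsg.Agent.Lib.FischerM24.Transport
import Cfsg.Agent.Lib.Components.Quasisimple
import Cfsg.Agent.Lib.ThreeTrans.Solvable.Lines

/-!
The class and a transposition of the presented Fi22 transported along an isomorphism (helper79).

* `Witness22`, `witness22`
-/

set_option autoImplicit false

namespace Cfsg.Agent.LargeFischerOuter

open Cfsg
open Cfsg.Agent.CosetEnum (fi22Setup)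
open Cfsg.Agent.Fi22U62 (z0 Hs)
open Cfsg.Agent.Unitary (GF4)

/-- A class of type M(22) and an involution with centraliser a cover of `PSU₆(2)`, not isolated. -/
def Witness22 (A : Type*) [Group A] : Prop :=
  (∃ E : Set A, Cfsg.IsThreeTranspositionClass E ∧ Cfsg.IsOfTypeM22 A E) ∧
    ∃ d : A, orderOf d = 2 ∧ Cfsg.IsQuasisimple ↥(Subgroup.centralizer ({d} : Set A)) ∧
      (∃ (K : Type) (_ : Field K) (_ : Fintype K), Fintype.card K = 4 ∧
        ∃ _ : ((Subgroup.zpowers d).subgroupOf (Subgroup.centralizer ({d} : Set A))).Normal,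
          Nonempty (↥(Subgroup.centralizer ({d} : Set A)) ⧸
            (Subgroup.zpowers d).subgroupOf (Subgroup.centralizer ({d} : Set A)) ≃* Cfsg.PSU 6 K 2)) ∧
      ∃ g, g * d * g⁻¹ ∈ Subgroup.centralizer ({d} : Set A) ∧ g * d * g⁻¹ ≠ d

theorem quasisimple_of_cover {H K : Type*} [Group H] [Finite H] [Group K] [IsSimpleGroup K]
    (hK : ∃ a b : K, a * b ≠ b * a) (h : Cfsg.IsNonsplitDoubleCover H K) : Cfsg.IsQuasisimple H := by
  obtain ⟨hc, ⟨e⟩, hns⟩ := h
  have hs : IsSimpleGroup (H ⧸ Subgroup.center H) := MulEquiv.isSimpleGroup e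
  refine ⟨⟨?_⟩, hs⟩
  set π := QuotientGroup.mk' (Subgroup.center H)
  have hmap : (commutator H).map π = ⊤ := by
    rw [commutator_def, Subgroup.map_commutator, Subgroup.map_top_of_surjective _ (QuotientGroup.mk'_surjective _),
      ← commutator_def]
    refine (commutator (H ⧸ Subgroup.center H)).normal_of_characteristic.eq_bot_or_eq_top.resolve_left fun hb => ?_
    obtain ⟨a, b, hab⟩ := hK
    rw [commutator_def, Subgroup.commutator_eq_bot_iff_le_centralizer] at hb
    have := Subgroup.mem_centralizer_iff.1 (hb (Subgroup.mem_top (e.symm b))) (e.symm a) (Subgroup.mem_top _)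
    rw [← map_mul, ← map_mul] at this
    exact hab (e.symm.injective this)
  by_contra hne
  have htop : commutator H ⊔ Subgroup.center H = ⊤ := by
    have := congrArg (Subgroup.comap π) hmap
    rwa [Subgroup.comap_map_eq, Subgroup.comap_top, QuotientGroup.ker_mk'] at this
  refine hns (commutator H) (Subgroup.isComplement'_of_disjoint_and_mul_eq_univ ?_ ?_)
  · have : Fact (Nat.card (Subgroup.center H)).Prime := ⟨hc ▸ Nat.prime_two⟩
    rcases ((commutator H).subgroupOf (Subgroup.center H)).eq_bot_or_eq_top_of_prime_card with e1 | e1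
    · exact (Subgroup.subgroupOf_eq_bot.1 e1).symm
    · exact absurd (top_le_iff.1 (htop ▸ sup_le le_rfl (Subgroup.subgroupOf_eq_top.1 e1))) hne
  · rw [← Subgroup.normal_mul, sup_comm, htop, Subgroup.coe_top]

theorem witness22 {A : Type*} [Group A] (e : A ≃* fi22Setup.G) : Witness22 A := by
  have := Fi22U62.fi22_finite
  have : Finite A := Finite.of_equiv _ e.symm.toEquiv
  refine ⟨⟨e.symm '' Fi22U62.classD, ThreeTrans.SolvLocal.class_map Fi22U62.isThreeTranspositionClass e.symm.toMonoidHom
    e.symm.surjective ?_, FischerM24.type22_map e.symm ?_ FischerExist.type22⟩, e.symm z0, ?_, ?_, ?_, ?_⟩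
  · intro d hd h
    have := (Fi22U62.isThreeTranspositionClass.1.1 d hd)
    rw [e.symm.injective (h.trans (map_one e.symm).symm), orderOf_one] at this
    exact absurd this (by norm_num)
  · intro g z hz
    exact (ThreeTrans.group_of_class Fi22U62.isThreeTranspositionClass).2.1 g z hz
  · rw [MulEquiv.orderOf_eq]
    exact orderOf_eq_prime (by rw [pow_two, Fi22U62.z0_sq]) Fi22U62.z0_ne
  all_goals
    have hcov := Fi22U62.cover_centralizer (d := z0) mem_conjugatesOf_self
    have hmap : (Subgroup.centralizer ({z0} : Set fi22Setup.G)).map e.symm.toMonoidHom =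
        Subgroup.centralizer ({e.symm z0} : Set A) := by
      ext x
      obtain ⟨y, rfl⟩ := e.symm.surjective x
      refine (Subgroup.mem_map_iff_mem (f := e.symm.toMonoidHom) e.symm.injective).trans ?_
      rw [Subgroup.mem_centralizer_singleton_iff, Subgroup.mem_centralizer_singleton_iff, ← map_mul, ← map_mul,
        e.symm.apply_eq_iff_eq]
    let f := (Subgroup.equivMapOfInjective (Subgroup.centralizer ({z0} : Set fi22Setup.G)) _ e.symm.injective).trans
      (MulEquiv.subgroupCongr hmap)
    have hcov' := Fi22U62.nonsplit_congr f hcov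
  · have := Unitary.isSimpleGroup_PSU (n := 6) Fi22U62.hF (Or.inl (by norm_num))
    refine quasisimple_of_cover ?_ hcov'
    by_contra hall
    push Not at hall
    have hp : (Nat.card (Cfsg.PSU 6 GF4 2)).Prime := by
      let : CommGroup (Cfsg.PSU 6 GF4 2) :=
        { (inferInstance : Group (Cfsg.PSU 6 GF4 2)) with mul_comm := hall }
      exact IsSimpleGroup.prime_card
    have e1 := Nat.card_congr Fi22U62.psuEquivRange.toEquiv
    rw [Fi22U62.card_pperm_range] at e1
    rw [e1] at hp
    exact absurd hp (by norm_num)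
  · have hz : e.symm z0 ∈ Subgroup.centralizer ({e.symm z0} : Set A) := Subgroup.mem_centralizer_singleton_iff.2 rfl
    have hne : e.symm z0 ≠ 1 := fun h => Fi22U62.z0_ne (e.symm.injective (h.trans (map_one _).symm))
    have hsub : (Subgroup.zpowers (e.symm z0)).subgroupOf (Subgroup.centralizer ({e.symm z0} : Set A)) =
        Subgroup.center ↥(Subgroup.centralizer ({e.symm z0} : Set A)) := by
      refine Subgroup.eq_of_le_of_card_ge (fun x hx => ?_) ?_
      · obtain ⟨k, hk⟩ := Subgroup.mem_zpowers_iff.1 hx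
        refine Subgroup.mem_center_iff.2 fun y => Subtype.ext ?_
        show (y : A) * x = x * y
        rw [show (x : A) = e.symm z0 ^ k from hk.symm]
        exact Commute.zpow_right (show Commute (y : A) (e.symm z0) from Subgroup.mem_centralizer_singleton_iff.1 y.2) k
      · rw [hcov'.1, Nat.card_congr (Subgroup.subgroupOfEquivOfLe (Subgroup.zpowers_le.2 hz)).toEquiv,
          Nat.card_zpowers, orderOf_eq_prime (p := 2) (by rw [← map_pow, pow_two, Fi22U62.z0_sq, map_one]) hne]
    have hn : ((Subgroup.zpowers (e.symm z0)).subgroupOf (Subgroup.centralizer ({e.symm z0} : Set A))).Normal :=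
      hsub ▸ inferInstance
    obtain ⟨f2⟩ := hcov'.2.1
    exact ⟨GF4, inferInstance, inferInstance, Unitary.GF4.card, hn,
      ⟨(QuotientGroup.quotientMulEquivOfEq hsub).trans f2⟩⟩
  · have hv := Fi22Aut.valid_gpt 2 (by norm_num) 0 (by norm_num)
    obtain ⟨g, hg⟩ := Fi22Aut.exists_map_pt0 (Fi22Aut.gpt 0)
    obtain ⟨g', hg'⟩ := Fi22Aut.exists_map_pt0 (Fi22Aut.gpt 2)
    have hg1 := Fi22Aut.model.conj g Fi22U62.pt0
    have hg2 := Fi22Aut.model.conj g' Fi22U62.pt0
    rw [Fi22Aut.model_rho, hg, Fi22Aut.model_d0] at hg1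
    rw [Fi22Aut.model_rho, hg', Fi22Aut.model_d0] at hg2
    have hcm : Commute (g * z0 * g⁻¹) (g' * z0 * g'⁻¹) := by
      rw [← hg1, ← hg2]
      exact (Fi22Aut.model.adj_iff _ _).1 (hv.2.2 (by decide +kernel))
    have hne : g * z0 * g⁻¹ ≠ g' * z0 * g'⁻¹ := by
      rw [← hg1, ← hg2]
      exact fun h => hv.1 (Fi22Aut.model.inj h).symm
    refine ⟨e.symm (g⁻¹ * g'), Subgroup.mem_centralizer_singleton_iff.2 ?_, fun h => hne ?_⟩
    · rw [← map_inv, ← map_mul, ← map_mul, ← map_mul, ← map_mul, e.symm.apply_eq_iff_eq]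
      have := (Commute.conj_iff g⁻¹).2 hcm
      simp only [inv_inv, mul_assoc, inv_mul_cancel_left, mul_inv_rev] at this ⊢
      simp only [inv_mul_cancel, mul_one] at this
      simpa [Commute, SemiconjBy, mul_assoc] using this.eq.symm
    · rw [← map_inv, ← map_mul, ← map_mul, e.symm.apply_eq_iff_eq] at h
      calc g * z0 * g⁻¹ = g * (g⁻¹ * g' * z0 * (g⁻¹ * g')⁻¹) * g⁻¹ := by rw [h]
        _ = g' * z0 * g'⁻¹ := by group

end Cfsg.Agent.LargeFischerOuter
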