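import Cfsg.Agent.Lib.LargeFischerOuter.Local
import Cfsg.Agent.Lib.LargeFischerOuter.Model22
import Cfsg.Agent.Lib.TransCentFi23.Main
import Cfsg.Agent.Lib.TransCentFi23.Model

/-!
The centraliser of the outer involution (helper79).

* `outer_data`, `assemble`
-/

set_option autoImplicit false
open Cfsg
open scoped commutatorElement

namespace Cfsg.Agent.LargeFischerOuter

open LargeExtraspecial LargeFischer QuadraticMap

universe u

variable {X : Type u} [Group X] [Finite X] {G₀ : Subgroup X} {z : ↥G₀}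
  {Q : Subgroup (Subgroup.centralizer ({z} : Set ↥G₀))} [Q.Normal] [Fact (Cfsg.IsExtraspecial 2 Q)]

omit [Q.Normal] in
theorem polar_eq (x y : Q) : polar (OutForm.qf Q) (OutForm.pr x) (OutForm.pr y) = OutForm.eps ⁅x, y⁆ :=
  OutForm.polar_pr x y

omit [Q.Normal] in
theorem polar_zero_iff (x y : Q) :
    polar (OutForm.qf Q) (OutForm.pr x) (OutForm.pr y) = 0 ↔ inj Q x * inj Q y = inj Q y * inj Q x := by
  rw [polar_eq, ← map_mul, ← map_mul, (inj_injective Q).eq_iff, ← commutatorElement_eq_one_iff_mul_comm]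
  exact ⟨fun h => OutForm.eps_inj (OutForm.comm_mem x y) (one_mem _) (h.trans OutForm.eps_one.symm),
    fun h => by rw [h, OutForm.eps_one]⟩

theorem orth_of_invariant {V : Type*} [AddCommGroup V] [Module (ZMod 2) V] (q : QuadraticForm (ZMod 2) V)
    (n : V ≃ₗ[ZMod 2] V) (hn3 : ∀ v, n (n (n v)) = v) (hfix : ∀ v, n v = v → v = 0)
    (W : AddSubgroup V) (hnW : ∀ w ∈ W, n w ∈ W) (v : V)
    (hinv : ∀ w ∈ W, polar q (n w) v = polar q w v) : ∀ w ∈ W, polar q w v = 0 := by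
  intro w hw
  have hsum : n (n w) = w + n w := by
    have h0 : w + n w + n (n w) = 0 := hfix _ (by rw [map_add, map_add, hn3]; abel)
    exact (eq_neg_of_add_eq_zero_right h0).trans (ZModModule.neg_eq_self _)
  have h1 : polar q (n (n w)) v = polar q w v := (hinv _ (hnW _ hw)).trans (hinv _ hw)
  rw [hsum, polar_add_left, hinv _ hw] at h1
  exact add_eq_left.1 h1

/-- An element centralising two elements and moving x into a conjugate by q sees equal values of the form. -/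
theorem polar_scalar (hF : Cfsg.IsOfLargeFischerTypeAt z Q) (S : Setting z Q) (d : X) (q r : Q)
    (hr : d * inj Q r = inj Q r * d)
    (hr' : d * inj Q (MulAut.conjNormal S.x r) = inj Q (MulAut.conjNormal S.x r) * d)
    (hqd : inj Q q * ((S.x : ↥G₀) : X) * (inj Q q)⁻¹ = d * ((S.x : ↥G₀) : X) * d⁻¹) :
    polar (OutForm.qf Q) (OutForm.pr (MulAut.conjNormal S.x r)) (OutForm.pr q) =
      polar (OutForm.qf Q) (OutForm.pr r) (OutForm.pr q) := by
  rw [polar_comm _ (OutForm.pr (MulAut.conjNormal S.x r)), polar_comm _ (OutForm.pr r), ← OutForm.pr_inv q,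
    polar_eq, polar_eq]
  congr 1
  refine inj_injective Q ?_
  have hxz : (z : X) * ((S.x : ↥G₀) : X) = ((S.x : ↥G₀) : X) * (z : X) :=
    (congrArg Subtype.val (Subgroup.mem_centralizer_singleton_iff.1 S.x.2)).symm
  have hcenq : ((S.x : ↥G₀) : X) * inj Q ⁅q⁻¹, r⁆ * ((S.x : ↥G₀) : X)⁻¹ = inj Q ⁅q⁻¹, r⁆ := by
    rcases center_cases hF (OutForm.comm_mem q⁻¹ r) with h | h
    · rw [show inj Q ⁅q⁻¹, r⁆ = 1 from congrArg Subtype.val h, mul_one, mul_inv_cancel]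
    · rw [show inj Q ⁅q⁻¹, r⁆ = (z : X) from congrArg Subtype.val h, ← hxz, mul_inv_cancel_right]
  have hxr : inj Q (MulAut.conjNormal S.x r) = ((S.x : ↥G₀) : X) * inj Q r * ((S.x : ↥G₀) : X)⁻¹ := rfl
  refine Eq.trans ?_ hcenq
  rw [map_commutatorElement, map_commutatorElement, map_inv, commutatorElement_def, commutatorElement_def,
    inv_inv]
  generalize ((S.x : ↥G₀) : X) = x at hxr hqd ⊢
  generalize inj Q q = Qq at hqd ⊢
  generalize inj Q (MulAut.conjNormal S.x r) = R' at hr' hxr ⊢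
  generalize inj Q r = R at hr hxr ⊢
  have hex : Qq⁻¹ * d * x = x * (Qq⁻¹ * d) := by
    calc Qq⁻¹ * d * x = Qq⁻¹ * (d * x * d⁻¹) * d := by simp [mul_assoc]
      _ = _ := by rw [← hqd]; simp [mul_assoc]
  have key : ∀ P, d * P = P * d → Qq⁻¹ * P * Qq * P⁻¹ = (Qq⁻¹ * d) * P * (Qq⁻¹ * d)⁻¹ * P⁻¹ := fun P hP => by
    calc Qq⁻¹ * P * Qq * P⁻¹ = Qq⁻¹ * (P * d) * d⁻¹ * Qq * P⁻¹ := by simp [mul_assoc]
      _ = _ := by rw [← hP]; simp [mul_assoc]
  rw [key R hr, key R' hr', hxr]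
  generalize Qq⁻¹ * d = e at hex ⊢
  calc e * (x * R * x⁻¹) * e⁻¹ * (x * R * x⁻¹)⁻¹
      = (e * x) * R * (e * x)⁻¹ * (x * R * x⁻¹)⁻¹ := by simp [mul_assoc]
    _ = _ := by rw [hex]; simp [mul_assoc]

/-- A conjugate of x by Q commutes with the element. -/
theorem conj_commutes (hF : Cfsg.IsOfLargeFischerTypeAt z Q) (hFX : FitX Q) (S : Setting z Q)
    (a : Subgroup.centralizer ({(z : X)} : Set X)) (q r : Q)
    (hcen : r⁻¹ * conjQ hFX a r * q ∈ Subgroup.center Q)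
    (hqd : inj Q q * ((S.x : ↥G₀) : X) * (inj Q q)⁻¹ = (a : X) * ((S.x : ↥G₀) : X) * (a : X)⁻¹) :
    (((r : Subgroup.centralizer ({z} : Set ↥G₀)) * S.x * (r : Subgroup.centralizer ({z} : Set ↥G₀))⁻¹ :
        Subgroup.centralizer ({z} : Set ↥G₀)) : ↥G₀) * (a : X) =
      (a : X) * ((((r : Subgroup.centralizer ({z} : Set ↥G₀)) * S.x *
        (r : Subgroup.centralizer ({z} : Set ↥G₀))⁻¹ : Subgroup.centralizer ({z} : Set ↥G₀)) : ↥G₀) : X) := by
  have hc1 : inj Q (r⁻¹ * conjQ hFX a r * q) * ((S.x : ↥G₀) : X) =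
      ((S.x : ↥G₀) : X) * inj Q (r⁻¹ * conjQ hFX a r * q) :=
    congrArg (fun c : Subgroup.centralizer ({z} : Set ↥G₀) => ((c : ↥G₀) : X)) (center_comm hF hcen S.x)
  rw [map_mul, map_mul, map_inv, inj_conjQ] at hc1
  show inj Q r * ((S.x : ↥G₀) : X) * (inj Q r)⁻¹ * (a : X) = (a : X) * (inj Q r * ((S.x : ↥G₀) : X) * (inj Q r)⁻¹)
  generalize ((S.x : ↥G₀) : X) = x at hc1 hqd ⊢
  generalize inj Q q = Qq at hqd hc1 ⊢
  generalize inj Q r = R at hc1 ⊢
  generalize (a : X) = d at hc1 hqd ⊢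
  refine (mul_inv_eq_iff_eq_mul.1 ?_).symm
  calc d * (R * x * R⁻¹) * d⁻¹ = d * R * d⁻¹ * (d * x * d⁻¹) * (d * R * d⁻¹)⁻¹ := by simp [mul_assoc]
    _ = R * ((R⁻¹ * (d * R * d⁻¹) * Qq * x) * (R⁻¹ * (d * R * d⁻¹) * Qq)⁻¹) * R⁻¹ := by
        rw [← hqd]; simp [mul_assoc]
    _ = R * x * R⁻¹ := by rw [hc1]; simp [mul_assoc]

set_option maxHeartbeats 1000000 in
/-- A conjugate of the element of order three commutes with the element. -/
theorem exists_mover_rich (hidx : G₀.index = 2) (hF : Cfsg.IsOfLargeFischerTypeAt z Q) (hFX : FitX Q)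
    (S : Setting z Q) {d : X}
    (hdz : d ∈ Subgroup.centralizer ({(z : X)} : Set X)) (tq : Q) {t : ↥G₀} (htX : inj Q tq = (t : X))
    (ht0 : OutForm.pr tq ≠ 0) (W : AddSubgroup (OutForm.Vm Q)) (hv0W : OutForm.pr tq ∈ W)
    (hnW : ∀ w ∈ W, S.n w ∈ W) (hWd : ∀ r : Q, OutForm.pr r ∈ W → d * inj Q r = inj Q r * d)
    (hWt : ∀ w ∈ W, polar (OutForm.qf Q) w (OutForm.pr tq) = 0)
    (hcm : psi hFX ⟨d, hdz⟩ * S.n = S.n * psi hFX ⟨d, hdz⟩)
    (hS : ∀ v, (∀ w ∈ W, polar (OutForm.qf Q) w v = 0) →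
      (∃ r, psi hFX ⟨d, hdz⟩ r + r = v) ∧ v ∈ W ∧ OutForm.qf Q v = 0) :
    ∃ g : Subgroup.centralizer ({z} : Set ↥G₀), toGL Q g = S.n ∧ ((g : ↥G₀) : X) * d = d * ((g : ↥G₀) : X) := by
  classical
  have := Subgroup.normal_of_index_eq_two hidx
  set v0 := OutForm.pr tq with hv0
  set a : Subgroup.centralizer ({(z : X)} : Set X) := ⟨d, hdz⟩ with ha
  have hperp : ∀ q : Q, polar (OutForm.qf Q) (OutForm.pr q) v0 = 0 ↔ inj Q q * (t : X) = (t : X) * inj Q q :=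
    fun q => htX ▸ polar_zero_iff q tq
  -- a conjugate of the element of order three
  have hxz : ((S.x : ↥G₀) : X) ∈ Subgroup.centralizer ({(z : X)} : Set X) :=
    Subgroup.mem_centralizer_singleton_iff.2
      (congrArg Subtype.val (Subgroup.mem_centralizer_singleton_iff.1 S.x.2))
  have hyG : d * ((S.x : ↥G₀) : X) * d⁻¹ ∈ G₀ := Subgroup.Normal.conj_mem ‹G₀.Normal› _ (S.x : ↥G₀).2 d
  set y' : Subgroup.centralizer ({(z : X)} : Set X) := a * ⟨_, hxz⟩ * a⁻¹ with hy'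
  have hyz : (⟨_, hyG⟩ : ↥G₀) ∈ Subgroup.centralizer ({z} : Set ↥G₀) :=
    Subgroup.mem_centralizer_singleton_iff.2 (Subtype.ext (Subgroup.mem_centralizer_singleton_iff.1 y'.2))
  set y : Subgroup.centralizer ({z} : Set ↥G₀) := ⟨_, hyz⟩ with hy
  have hy3 : y * y * y = 1 := Subtype.ext (Subtype.ext (by
    have h3 : ((S.x : ↥G₀) : X) * (S.x : ↥G₀) * (S.x : ↥G₀) = 1 :=
      congrArg (fun c : Subgroup.centralizer ({z} : Set ↥G₀) => ((c : ↥G₀) : X)) S.x_three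
    show d * ((S.x : ↥G₀) : X) * d⁻¹ * (d * ((S.x : ↥G₀) : X) * d⁻¹) * (d * ((S.x : ↥G₀) : X) * d⁻¹) = 1
    calc _ = d * (((S.x : ↥G₀) : X) * (S.x : ↥G₀) * (S.x : ↥G₀)) * d⁻¹ := by simp [mul_assoc]
      _ = 1 := by rw [h3]; simp))
  have hδ : y * S.x⁻¹ ∈ Q := by
    refine (exists_frame hF).1.le (MonoidHom.mem_ker.2 ?_)
    rw [map_mul, map_inv, ← psi_eq hFX (a := y') (c := y) rfl, hy',
      map_mul, map_mul, map_inv, psi_eq hFX (a := ⟨_, hxz⟩) (c := S.x) rfl, S.x_map, hcm, mul_inv_cancel_right,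
      mul_inv_cancel]
  obtain ⟨q, hq⟩ := exists_conj_cube hF S hy3 hδ
  have hqd : inj Q q * ((S.x : ↥G₀) : X) * (inj Q q)⁻¹ = d * ((S.x : ↥G₀) : X) * d⁻¹ :=
    congrArg (fun c : Subgroup.centralizer ({z} : Set ↥G₀) => ((c : ↥G₀) : X)) hq
  -- the fixed space pairs with q through n-invariant values
  have hn3 : ∀ v, S.n (S.n (S.n v)) = v := fun v => by
    have := congrArg (fun f : OutForm.Vm Q ≃ₗ[ZMod 2] OutForm.Vm Q => f v) S.n_three
    simpa [pow_succ, LinearEquiv.mul_apply] using this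
  have hinv : ∀ w ∈ W, polar (OutForm.qf Q) (S.n w) (OutForm.pr q) = polar (OutForm.qf Q) w (OutForm.pr q) := by
    intro w hw
    obtain ⟨r, rfl⟩ := OutForm.pr_surjective w
    have hr'W : OutForm.pr (MulAut.conjNormal S.x r) ∈ W := by rw [pr_conj, S.x_map]; exact hnW _ hw
    have := polar_scalar hF S d q r (hWd r hw) (hWd _ hr'W) hqd
    rwa [pr_conj, S.x_map] at this
  -- so q comes from the element
  have hqW : ∀ w ∈ W, polar (OutForm.qf Q) w (OutForm.pr q) = 0 :=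
    orth_of_invariant (OutForm.qf Q) S.n hn3 S.n_fix W hnW _ hinv
  obtain ⟨⟨v, hv⟩, -, -⟩ := hS _ hqW
  obtain ⟨r, rfl⟩ := OutForm.pr_surjective v
  set cq : Q := r⁻¹ * conjQ hFX a r * q with hcq
  have hcen : cq ∈ Subgroup.center Q := by
    rw [← OutForm.pr_eq_zero, hcq, OutForm.pr_mul, OutForm.pr_mul, OutForm.pr_inv, ← psi_pr, add_comm (OutForm.pr r),
      hv, ZModModule.add_self]
  set g : Subgroup.centralizer ({z} : Set ↥G₀) := (r : Subgroup.centralizer ({z} : Set ↥G₀)) * S.x *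
    (r : Subgroup.centralizer ({z} : Set ↥G₀))⁻¹ with hg
  have hgv : ((g : ↥G₀) : X) = inj Q r * ((S.x : ↥G₀) : X) * (inj Q r)⁻¹ := rfl
  refine ⟨g, ?_, conj_commutes hF hFX S a q r hcen hqd⟩
  have hr1 : toGL Q (r : Subgroup.centralizer ({z} : Set ↥G₀)) = 1 := by
    rw [← MonoidHom.mem_ker, (exists_frame hF).1]; exact r.2
  rw [hg, map_mul, map_mul, map_inv, hr1, S.x_map]
  simp

/-- A conjugate of the element of order three commutes with the element and moves the involution. -/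
theorem exists_mover (hidx : G₀.index = 2) (hF : Cfsg.IsOfLargeFischerTypeAt z Q) (hFX : FitX Q)
    (S : Setting z Q) {d : X}
    (hdz : d ∈ Subgroup.centralizer ({(z : X)} : Set X)) (tq : Q) {t : ↥G₀} (htX : inj Q tq = (t : X))
    (ht0 : OutForm.pr tq ≠ 0) (W : AddSubgroup (OutForm.Vm Q)) (hv0W : OutForm.pr tq ∈ W)
    (hnW : ∀ w ∈ W, S.n w ∈ W) (hWd : ∀ r : Q, OutForm.pr r ∈ W → d * inj Q r = inj Q r * d)
    (hWt : ∀ w ∈ W, polar (OutForm.qf Q) w (OutForm.pr tq) = 0)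
    (hcm : psi hFX ⟨d, hdz⟩ * S.n = S.n * psi hFX ⟨d, hdz⟩)
    (hS : ∀ v, (∀ w ∈ W, polar (OutForm.qf Q) w v = 0) →
      (∃ r, psi hFX ⟨d, hdz⟩ r + r = v) ∧ v ∈ W ∧ OutForm.qf Q v = 0) :
    ∃ g ∈ G₀, g * d = d * g ∧ Commute (g * (t : X) * g⁻¹) (t : X) ∧ g * (t : X) * g⁻¹ ≠ (t : X) := by
  obtain ⟨g, hgS, hgd⟩ := exists_mover_rich hidx hF hFX S hdz tq htX ht0 W hv0W hnW hWd hWt hcm hS
  have hpg : OutForm.pr (MulAut.conjNormal g tq) = S.n (OutForm.pr tq) := by rw [pr_conj, hgS]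
  have hgt : ((g : ↥G₀) : X) * (t : X) * ((g : ↥G₀) : X)⁻¹ = inj Q (MulAut.conjNormal g tq) := by
    rw [← htX]; rfl
  refine ⟨_, (g : ↥G₀).2, hgd, ?_, fun h => ht0 (S.n_fix _ ?_)⟩
  · rw [hgt, ← htX]
    refine (polar_zero_iff _ tq).1 ?_
    rw [hpg]
    exact hWt _ (hnW _ hv0W)
  · rw [hgt] at h
    rw [← hpg, inj_injective Q (h.trans htX.symm)]

/-- The part of the space coming from the cover. -/
def axisW (tq : Q) : AddSubgroup (OutForm.Vm Q) where
  carrier := {v | ∃ q : Q, OutForm.pr q = v ∧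
    inj Q q ∈ coverX ((tq : Subgroup.centralizer ({z} : Set ↥G₀)) : ↥G₀)}
  zero_mem' := ⟨1, rfl, by rw [map_one]; exact one_mem _⟩
  add_mem' := fun {u w} ⟨q, hq, hqK⟩ ⟨r, hr, hrK⟩ =>
    ⟨q * r, by rw [OutForm.pr_mul, hq, hr], by rw [map_mul]; exact mul_mem hqK hrK⟩
  neg_mem' := fun {u} ⟨q, hq, hqK⟩ => ⟨q, by rw [ZModModule.neg_eq_self]; exact hq, hqK⟩

/-- The outer involution, the noncentral involution it centralises and the plane it moves. -/
structure Outer (hFX : FitX Q) (S : Setting z Q) (d : X) (tq : Q)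
    (hdz : d ∈ Subgroup.centralizer ({(z : X)} : Set X)) : Prop where
  sq : d * d = 1
  out : d ∉ G₀
  ord : orderOf ((tq : Subgroup.centralizer ({z} : Set ↥G₀)) : ↥G₀) = 2
  nconj : ¬ IsConj z ((tq : Subgroup.centralizer ({z} : Set ↥G₀)) : ↥G₀)
  pr_ne : OutForm.pr tq ≠ 0
  leG : coverX ((tq : Subgroup.centralizer ({z} : Set ↥G₀)) : ↥G₀) ≤ G₀
  t_mem : inj Q tq ∈ coverX ((tq : Subgroup.centralizer ({z} : Set ↥G₀)) : ↥G₀)
  cent_t : ∀ k ∈ coverX ((tq : Subgroup.centralizer ({z} : Set ↥G₀)) : ↥G₀), k * inj Q tq = inj Q tq * k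
  cent_d : ∀ k ∈ coverX ((tq : Subgroup.centralizer ({z} : Set ↥G₀)) : ↥G₀), d * k = k * d
  fix : ∀ a ∈ G₀, a * d = d * a → a * inj Q tq = inj Q tq * a →
    a ∈ coverX ((tq : Subgroup.centralizer ({z} : Set ↥G₀)) : ↥G₀)
  qs : Cfsg.IsQuasisimple ↥(coverX ((tq : Subgroup.centralizer ({z} : Set ↥G₀)) : ↥G₀))
  comm : ∀ a b : X, a ∈ G₀ → b ∈ G₀ → a * inj Q tq = inj Q tq * a → b * inj Q tq = inj Q tq * b →
    ⁅a, b⁆ ∈ coverX ((tq : Subgroup.centralizer ({z} : Set ↥G₀)) : ↥G₀)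
  quot : ∃ _ : ((Subgroup.zpowers (inj Q tq)).subgroupOf
      (coverX ((tq : Subgroup.centralizer ({z} : Set ↥G₀)) : ↥G₀))).Normal,
    Nonempty (↥(coverX ((tq : Subgroup.centralizer ({z} : Set ↥G₀)) : ↥G₀)) ⧸ (Subgroup.zpowers (inj Q tq)).subgroupOf
      (coverX ((tq : Subgroup.centralizer ({z} : Set ↥G₀)) : ↥G₀)) ≃* Cfsg.Spor.Fi22)
  v0W : OutForm.pr tq ∈ axisW tq
  axis : ∀ q : Q, OutForm.pr q ∈ axisW tq ↔ inj Q q ∈ coverX ((tq : Subgroup.centralizer ({z} : Set ↥G₀)) : ↥G₀)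
  nW : ∀ w ∈ axisW tq, S.n w ∈ axisW tq
  orth : ∀ w ∈ axisW tq, polar (OutForm.qf Q) w (OutForm.pr tq) = 0
  cm : psi hFX ⟨d, hdz⟩ * S.n = S.n * psi hFX ⟨d, hdz⟩
  fixW : ∀ w ∈ axisW tq, psi hFX ⟨d, hdz⟩ w = w
  axis_max : ∀ v, psi hFX ⟨d, hdz⟩ v = v → v ∈ axisW tq
  cov : ∀ a b, polar (OutForm.qf Q) a (OutForm.pr tq) = 0 → polar (OutForm.qf Q) b (OutForm.pr tq) = 0 →
    a ∉ axisW tq → b ∉ axisW tq → a + b ∈ axisW tq
  moved : ∃ u : Q, polar (OutForm.qf Q) (OutForm.pr u) (OutForm.pr tq) = 0 ∧ OutForm.pr u ∉ axisW tq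
  range_orth : ∀ v r, r ∈ axisW tq → polar (OutForm.qf Q) r (psi hFX ⟨d, hdz⟩ v + v) = 0
  perp : ∀ v, (∀ w ∈ axisW tq, polar (OutForm.qf Q) w v = 0) →
    (∃ r, psi hFX ⟨d, hdz⟩ r + r = v) ∧ v ∈ axisW tq ∧ OutForm.qf Q v = 0
  perp_list : ∀ v, (∀ w ∈ axisW tq, polar (OutForm.qf Q) w v = 0) →
    v = 0 ∨ v = OutForm.pr tq ∨ v = S.n (OutForm.pr tq) ∨ v = S.n (S.n (OutForm.pr tq))

set_option maxHeartbeats 1000000 in
/-- The outer involution exists. -/
theorem outer_rich (hidx : G₀.index = 2) (hF : Cfsg.IsOfLargeFischerTypeAt z Q) (hFX : FitX Q)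
    (hcentral : ∃ P : Sylow 2 ↥G₀, z ∈ (P : Subgroup ↥G₀) ∧ ∀ x ∈ (P : Subgroup ↥G₀), Commute x z)
    (hcover : ∀ t : ↥G₀, (∃ htc : t ∈ Subgroup.centralizer ({z} : Set ↥G₀),
        (⟨t, htc⟩ : Subgroup.centralizer ({z} : Set ↥G₀)) ∈ Q) → orderOf t = 2 → ¬ IsConj z t →
        NoncentralCover t) (S : Setting z Q) :
    ∃ (d : X) (tq : Q) (hdz : d ∈ Subgroup.centralizer ({(z : X)} : Set X)), Outer hFX S d tq hdz := by
  classical
  obtain ⟨tq, ht0, ht2, htz, c, hc, hct⟩ := exists_outer hidx hF hFX hcentral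
  set t : ↥G₀ := ((tq : Subgroup.centralizer ({z} : Set ↥G₀)) : ↥G₀) with ht
  have htX : inj Q tq = (t : X) := rfl
  have ht1 : t ≠ 1 := fun h => ht0 (OutForm.pr_eq_zero.2 (by
    rw [show tq = 1 from Subtype.ext (Subtype.ext h)]; exact one_mem _))
  have hord : orderOf t = 2 := orderOf_eq_prime (by
    rw [pow_two]; exact congrArg (fun q : Q => ((q : Subgroup.centralizer ({z} : Set ↥G₀)) : ↥G₀)) ht2) ht1
  obtain ⟨hKG, htK, hqsX, hKt, hpair, hcomm2, hquot, d, hd, hdK, hd2⟩ :=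
    cover_data hidx t hord (hcover t ⟨(tq : Subgroup.centralizer ({z} : Set ↥G₀)).2, tq.2⟩ hord htz) hc
      (htX ▸ hct)
  set KX := coverX t
  have hD := data_of_type hF
  have hinjG : ∀ q : Q, inj Q q ∈ G₀ := fun q => ((q : Subgroup.centralizer ({z} : Set ↥G₀)) : ↥G₀).2
  have hnd := (Forms.nondegenerate_polarBilin_iff _).1 (OutForm.qf_nondegenerate (E := Q))
  have hcardV : Nat.card (OutForm.Vm Q) = 4096 := by
    rw [OutForm.card_Vm (n := 6) hF.1.2.2.2.1]; norm_num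
  set v0 := OutForm.pr tq with hv0
  have hq0 : OutForm.qf Q v0 = 0 := by rw [hv0, OutForm.qf_apply, ht2, OutForm.eps_one]
  have hperp : ∀ q : Q, polar (OutForm.qf Q) (OutForm.pr q) v0 = 0 ↔ inj Q q * (t : X) = (t : X) * inj Q q :=
    fun q => polar_zero_iff q tq
  -- the central involution lies in the cover
  have hzK : (z : X) ∈ KX := by
    obtain ⟨a, b, ha, hb, hab⟩ : ∃ a b : Q, inj Q a * (t : X) = (t : X) * inj Q a ∧
        inj Q b * (t : X) = (t : X) * inj Q b ∧ ⁅a, b⁆ ≠ 1 := by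
      by_contra hall
      push Not at hall
      have hz : ∀ u w, polar (OutForm.qf Q) u v0 = 0 → polar (OutForm.qf Q) w v0 = 0 →
          polar (OutForm.qf Q) u w = 0 := by
        intro u w hu hw
        obtain ⟨a, rfl⟩ := OutForm.pr_surjective u
        obtain ⟨b, rfl⟩ := OutForm.pr_surjective w
        rw [polar_eq, hall a b ((hperp a).1 hu) ((hperp b).1 hw), OutForm.eps_one]
      obtain ⟨w, hw⟩ : ∃ w, polar (OutForm.qf Q) w v0 ≠ 0 := by
        by_contra hno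
        push Not at hno
        exact ht0 (hnd v0 fun w => by rw [polar_comm]; exact hno w)
      have hw1 : polar (OutForm.qf Q) w v0 = 1 := (z2_cases _).resolve_left hw
      have hsplit : ∀ v, polar (OutForm.qf Q) v v0 = 0 ∨ polar (OutForm.qf Q) (v + w) v0 = 0 := fun v => by
        rcases z2_cases (polar (OutForm.qf Q) v v0) with h | h
        · exact Or.inl h
        · exact Or.inr (by rw [polar_add_left, h, hw1]; decide)
      let H := {v : OutForm.Vm Q // polar (OutForm.qf Q) v v0 = 0}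
      have hinj : Function.Injective (fun u : H => polar (OutForm.qf Q) (u : OutForm.Vm Q) w) := by
        intro u u' h
        refine Subtype.ext (sub_eq_zero.1 (hnd _ fun v => ?_))
        rw [polar_sub_left, sub_eq_zero]
        rcases hsplit v with hv | hv
        · rw [hz _ _ u.2 hv, hz _ _ u'.2 hv]
        · have e1 := hz _ _ u.2 hv
          have e2 := hz _ _ u'.2 hv
          rw [polar_add_right] at e1 e2
          rw [eq_neg_of_add_eq_zero_left e1, eq_neg_of_add_eq_zero_left e2,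
            show polar (OutForm.qf Q) (u : OutForm.Vm Q) w = polar (OutForm.qf Q) (u' : OutForm.Vm Q) w from h]
      have h1 := Nat.card_le_card_of_injective _ hinj
      rw [Nat.card_zmod] at h1
      have hs : Function.Surjective (fun p : H × Bool => if p.2 then (p.1 : OutForm.Vm Q) + w else (p.1 : OutForm.Vm Q)) := by
        intro v
        rcases hsplit v with hv | hv
        · exact ⟨(⟨v, hv⟩, false), rfl⟩
        · exact ⟨(⟨v + w, hv⟩, true), by simp [add_assoc, ZModModule.add_self]⟩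
      have h2 := Nat.card_le_card_of_surjective _ hs
      rw [Nat.card_prod, show Nat.card Bool = 2 by simp, hcardV] at h2
      omega
    have hc2 := hcomm2 _ _ (hinjG a) (hinjG b) ha hb
    rw [← map_commutatorElement] at hc2
    rcases center_cases hF (OutForm.comm_mem a b) with h | h
    · exact absurd (Subtype.ext (Subtype.ext h)) hab
    · rwa [show inj Q ⁅a, b⁆ = (z : X) from congrArg Subtype.val h] at hc2
  have hdz : d ∈ Subgroup.centralizer ({(z : X)} : Set X) :=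
    Subgroup.mem_centralizer_singleton_iff.2 (hdK _ hzK)
  set a : Subgroup.centralizer ({(z : X)} : Set X) := ⟨d, hdz⟩ with ha
  have hcz : ∀ q ∈ Subgroup.center Q, inj Q q ∈ KX := fun q hq => by
    rcases center_cases hF hq with h | h
    · rw [show inj Q q = 1 from congrArg Subtype.val h]; exact one_mem _
    · rw [show inj Q q = (z : X) from congrArg Subtype.val h]; exact hzK
  set W : AddSubgroup (OutForm.Vm Q) := axisW tq with hWdef
  have hW : ∀ q : Q, OutForm.pr q ∈ W ↔ inj Q q ∈ KX := fun q =>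
    ⟨fun ⟨r, hr, hrK⟩ => by
      obtain ⟨c, hc, rfl⟩ := OutForm.eq_mul_center hr.symm
      rw [map_mul]; exact mul_mem hrK (hcz c hc),
    fun h => ⟨q, rfl, h⟩⟩
  have hfixQ : ∀ q : Q, inj Q q ∈ KX → conjQ hFX a q = q := fun q hq => inj_injective Q (by
    rw [inj_conjQ]
    show d * inj Q q * d⁻¹ = inj Q q
    rw [hdK _ hq, mul_inv_cancel_right])
  have hqn : ∀ v, OutForm.qf Q (S.n v) = OutForm.qf Q v := by
    obtain ⟨k, hk⟩ := S.n_mem
    intro v; rw [← hk]; exact toGL_q k v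
  have := Subgroup.normal_of_index_eq_two hidx
  -- the element normalises the group induced on the quotient
  have hnorm : ∀ k : Subgroup.centralizer ({z} : Set ↥G₀), ∀ b : Subgroup.centralizer ({(z : X)} : Set X),
      psi hFX b * toGL Q k * (psi hFX b)⁻¹ ∈ (toGL Q).range := by
    intro k b
    have hkz : ((k : ↥G₀) : X) ∈ Subgroup.centralizer ({(z : X)} : Set X) :=
      Subgroup.mem_centralizer_singleton_iff.2
        (congrArg Subtype.val (Subgroup.mem_centralizer_singleton_iff.1 k.2))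
    set b' := b * ⟨_, hkz⟩ * b⁻¹
    have hb : (b' : X) ∈ G₀ := Subgroup.Normal.conj_mem ‹G₀.Normal› _ (k : ↥G₀).2 (b : X)
    have hb2 : (⟨_, hb⟩ : ↥G₀) ∈ Subgroup.centralizer ({z} : Set ↥G₀) :=
      Subgroup.mem_centralizer_singleton_iff.2 (Subtype.ext (Subgroup.mem_centralizer_singleton_iff.1 b'.2))
    exact ⟨⟨_, hb2⟩, by rw [← psi_eq hFX (a := b') rfl, ← psi_eq hFX (a := ⟨_, hkz⟩) (c := k) rfl, map_mul, map_mul, map_inv]⟩
  have hm : psi hFX a * S.n * (psi hFX a)⁻¹ ∈ Subgroup.zpowers S.n := by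
    obtain ⟨k, hk⟩ := S.n_mem
    refine zpowers_scalar hF S (hk ▸ hnorm k a) (by rw [conj_pow, S.n_three, mul_one, mul_inv_cancel]) ?_
    rintro γ ⟨l, rfl⟩
    obtain ⟨l', hl'⟩ := hnorm l a⁻¹
    rw [map_inv, inv_inv] at hl'
    obtain ⟨i, hi⟩ := Subgroup.mem_zpowers_iff.1 (scalar_normal S _ ⟨l', rfl⟩)
    refine Subgroup.mem_zpowers_iff.2 ⟨i, ?_⟩
    rw [conj_zpow, hi, hl']
    group
  have hcov : ∀ x y, polar (OutForm.qf Q) x v0 = 0 → polar (OutForm.qf Q) y v0 = 0 → x ∉ W → y ∉ W → x + y ∈ W := by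
    intro x y hx hy hxW hyW
    obtain ⟨q, rfl⟩ := OutForm.pr_surjective x
    obtain ⟨r, rfl⟩ := OutForm.pr_surjective y
    rw [← OutForm.pr_mul, hW, map_mul]
    rw [hW] at hxW hyW
    exact hpair _ _ (hinjG q) (hinjG r) ((hperp q).1 hx) ((hperp r).1 hy) hxW hyW
  obtain ⟨hcm, hfixW, hnW, ⟨u, hu, huW⟩, hsub, hS, hlist, -⟩ := plane (OutForm.qf Q) hcardV hnd S.n (psi hFX a) hqn
    (psi_q hFX a) S.n_three S.n_fix (fun h => hd (psi_inner hFX h)) hm v0 ht0 hq0 W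
    ((hW tq).2 (htX ▸ htK))
    (by rintro _ ⟨q, rfl, hq⟩; rw [psi_pr, hfixQ q hq])
    (by rintro _ ⟨q, rfl, hq⟩; exact (hperp q).2 (hKt _ hq))
    hcov
  -- it is an involution
  have hdd : d * d = 1 := by
    refine hd2.resolve_right fun h => ?_
    obtain ⟨w, hw⟩ : ∃ w, polar (OutForm.qf Q) w v0 ≠ 0 := by
      by_contra hno
      push Not at hno
      exact ht0 (hnd v0 fun w => by rw [polar_comm]; exact hno w)
    obtain ⟨q, rfl⟩ := OutForm.pr_surjective w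
    apply hw
    rw [hperp]
    set e := q⁻¹ * conjQ hFX a q with he
    have hpe : OutForm.pr e = psi hFX a (OutForm.pr q) + OutForm.pr q := by
      rw [he, OutForm.pr_mul, OutForm.pr_inv, psi_pr, add_comm]
    obtain ⟨-, heW, hqe⟩ := hS _ fun w hw => hsub (OutForm.pr q) w hw
    rw [← hpe] at heW hqe
    have he2 : e * e = 1 := OutForm.eps_inj (OutForm.sq_mem e) (one_mem _) (by
      rw [← OutForm.qf_apply, hqe, OutForm.eps_one])
    have hcq : conjQ hFX a (conjQ hFX a q) = q := by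
      have e1 : conjQ hFX a q = q * e := by rw [he, mul_inv_cancel_left]
      rw [e1, map_mul, hfixQ e ((hW e).1 heW), e1, mul_assoc, he2, mul_one]
    have h3 := congrArg (inj Q) hcq
    rw [inj_conjQ, inj_conjQ] at h3
    change d * (d * inj Q q * d⁻¹) * d⁻¹ = inj Q q at h3
    have h4 : d * d * inj Q q = inj Q q * (d * d) := by
      conv_rhs => rw [← h3]
      simp [mul_assoc]
    rw [← h]
    exact h4.symm
  have hd1 : d ≠ 1 := fun h => hd (h ▸ one_mem _)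
  refine ⟨d, tq, hdz, ⟨hdd, hd, hord, htz, ht0, hKG, htX ▸ htK, hKt, hdK, ?_, hqsX, hcomm2, hquot,
    (hW tq).2 (htX ▸ htK), hW, hnW, ?_, hcm, ?_, hfixW, hcov, ?_, hsub, hS, hlist⟩⟩
  pick_goal 2
  · rintro _ ⟨q, rfl, hq⟩
    exact (hperp q).2 (hKt _ hq)
  pick_goal 2
  · rintro _ ⟨q, rfl, hq⟩
    rw [psi_pr, hfixQ q hq]
  pick_goal 2
  · obtain ⟨q, rfl⟩ := OutForm.pr_surjective u
    exact ⟨q, hu, huW⟩
  · intro x hx hxd hxt
    obtain ⟨q, rfl⟩ := OutForm.pr_surjective u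
    have hqK : inj Q q ∉ KX := fun h => huW ((hW q).2 h)
    by_contra hxK
    have hp := hpair _ _ (hinjG q) hx ((hperp q).1 hu) hxt hqK hxK
    have h1 := hdK _ hp
    have hq : d * inj Q q = inj Q q * d := by
      calc d * inj Q q = d * (inj Q q * x) * x⁻¹ := by simp [mul_assoc]
        _ = inj Q q * (x * d) * x⁻¹ := by rw [h1]; simp [mul_assoc]
        _ = inj Q q * d := by rw [hxd]; simp [mul_assoc]
    refine huW (hfixW _ ?_)
    rw [psi_pr]
    refine congrArg OutForm.pr (inj_injective Q ?_)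
    rw [inj_conjQ]
    show d * inj Q q * d⁻¹ = inj Q q
    rw [hq, mul_inv_cancel_right]

/-- The outer involution. -/
theorem outer_data (hidx : G₀.index = 2) (hF : Cfsg.IsOfLargeFischerTypeAt z Q) (hFX : FitX Q)
    (hcentral : ∃ P : Sylow 2 ↥G₀, z ∈ (P : Subgroup ↥G₀) ∧ ∀ x ∈ (P : Subgroup ↥G₀), Commute x z)
    (hcover : ∀ t : ↥G₀, (∃ htc : t ∈ Subgroup.centralizer ({z} : Set ↥G₀),
        (⟨t, htc⟩ : Subgroup.centralizer ({z} : Set ↥G₀)) ∈ Q) → orderOf t = 2 → ¬ IsConj z t →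
        NoncentralCover t) :
    ∃ (d : X) (t : ↥G₀) (KX : Subgroup X), orderOf d = 2 ∧ d ∉ G₀ ∧ Commute d (z : X) ∧ orderOf t = 2 ∧
      Commute d (t : X) ∧ KX ≤ G₀ ∧ (∀ k ∈ KX, d * k = k * d) ∧ (∀ k ∈ KX, k * (t : X) = (t : X) * k) ∧
      (∀ a ∈ G₀, a * d = d * a → a * (t : X) = (t : X) * a → a ∈ KX) ∧ Cfsg.IsQuasisimple ↥KX ∧
      (∃ _ : ((Subgroup.zpowers (t : X)).subgroupOf KX).Normal,
        Nonempty (↥KX ⧸ (Subgroup.zpowers (t : X)).subgroupOf KX ≃* Cfsg.Spor.Fi22)) ∧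
      ∃ g ∈ G₀, g * d = d * g ∧ Commute (g * (t : X) * g⁻¹) (t : X) ∧ g * (t : X) * g⁻¹ ≠ (t : X) := by
  obtain ⟨S⟩ := exists_setting hF
  obtain ⟨d, tq, hdz, O⟩ := outer_rich hidx hF hFX hcentral hcover S
  refine ⟨d, _, _, orderOf_eq_prime (by rw [pow_two, O.sq]) (fun h => O.out (h ▸ one_mem _)), O.out,
    Subgroup.mem_centralizer_singleton_iff.1 hdz, O.ord, O.cent_d _ O.t_mem, O.leG, O.cent_d, O.cent_t, O.fix,
    O.qs, O.quot, ?_⟩
  exact exists_mover hidx hF hFX S hdz tq rfl O.pr_ne (axisW tq) O.v0W O.nW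
    (fun r hr => O.cent_d _ ((O.axis r).1 hr)) O.orth O.cm O.perp

end Cfsg.Agent.LargeFischerOuter
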