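import Cfsg.Agent.Lib.LargeFischerOuter.Scalar
import Cfsg.Agent.Lib.LargeFischerOuter.Cover
import Cfsg.Agent.Lib.LargeFischerOuter.Linear
import Cfsg.Agent.Lib.Symplectic.FStarFour
import Cfsg.Agent.Lib.Components.GenFitting

/-!
The action of the centraliser in the larger group on Q, and an outer element fixing a noncentral involution (helper79).

* `inj`, `conjQ`, `psi`, `psi_inner`, `exists_outer`
-/

set_option autoImplicit false
open Cfsg
open scoped commutatorElement

namespace Cfsg.Agent.LargeFischerOuter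

open LargeExtraspecial LargeFischer

universe u

variable {X : Type u} [Group X] [Finite X] {G₀ : Subgroup X} {z : ↥G₀}
  {Q : Subgroup (Subgroup.centralizer ({z} : Set ↥G₀))} [Q.Normal]

/-- The inclusion of Q in the larger group. -/
def inj (Q : Subgroup (Subgroup.centralizer ({z} : Set ↥G₀))) : ↥Q →* X :=
  G₀.subtype.comp ((Subgroup.centralizer ({z} : Set ↥G₀)).subtype.comp Q.subtype)

omit [Q.Normal] [Finite X] in
theorem inj_injective (Q : Subgroup (Subgroup.centralizer ({z} : Set ↥G₀))) : Function.Injective (inj Q) :=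
  G₀.subtype_injective.comp ((Subgroup.subtype_injective _).comp Q.subtype_injective)

/-- The image of Q. -/
def img (Q : Subgroup (Subgroup.centralizer ({z} : Set ↥G₀))) : Subgroup X :=
  (Q.map (Subgroup.subtype _)).map G₀.subtype

omit [Q.Normal] [Finite X] in
theorem inj_range : (inj Q).range = img Q := by
  rw [inj, img, MonoidHom.range_comp, MonoidHom.range_comp, Subgroup.range_subtype]

/-- Q is the generalized Fitting subgroup of the larger centraliser. -/
def FitX (Q : Subgroup (Subgroup.centralizer ({z} : Set ↥G₀))) : Prop :=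
  (Cfsg.generalizedFittingSubgroup ↥(Subgroup.centralizer ({(z : X)} : Set X))).map (Subgroup.subtype _) = img Q

omit [Q.Normal] [Finite X] in
theorem conj_mem (hFX : FitX Q) (a : Subgroup.centralizer ({(z : X)} : Set X)) (q : Q) :
    ∃ r : Q, inj Q r = (a : X) * inj Q q * (a : X)⁻¹ := by
  have hq : inj Q q ∈ img Q := inj_range (Q := Q) ▸ ⟨q, rfl⟩
  rw [← hFX] at hq
  obtain ⟨f, hf, he⟩ := hq
  have : (a : X) * inj Q q * (a : X)⁻¹ ∈ (inj Q).range := by
    rw [inj_range, ← hFX]
    exact ⟨a * f * a⁻¹, Subgroup.Normal.conj_mem inferInstance f hf a, by rw [← he]; rfl⟩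
  exact this

/-- Conjugation by the larger centraliser on Q. -/
noncomputable def conjQ (hFX : FitX Q) : Subgroup.centralizer ({(z : X)} : Set X) →* MulAut Q :=
  MonoidHom.mk'
    (fun a =>
      { toFun := fun q => (conj_mem hFX a q).choose
        invFun := fun q => (conj_mem hFX a⁻¹ q).choose
        left_inv := fun q => inj_injective Q (by
          rw [(conj_mem hFX a⁻¹ _).choose_spec, (conj_mem hFX a q).choose_spec]
          simp [mul_assoc])
        right_inv := fun q => inj_injective Q (by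
          rw [(conj_mem hFX a _).choose_spec, (conj_mem hFX a⁻¹ q).choose_spec]
          simp [mul_assoc])
        map_mul' := fun q r => inj_injective Q (by
          refine (conj_mem hFX a (q * r)).choose_spec.trans ?_
          rw [map_mul, map_mul, (conj_mem hFX a q).choose_spec, (conj_mem hFX a r).choose_spec]
          simp [mul_assoc]) })
    (fun a b => MulEquiv.ext fun q => inj_injective Q (by
      show inj Q (conj_mem hFX (a * b) q).choose = inj Q (conj_mem hFX a (conj_mem hFX b q).choose).choose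
      rw [(conj_mem hFX (a * b) q).choose_spec, (conj_mem hFX a _).choose_spec, (conj_mem hFX b q).choose_spec]
      simp [mul_assoc]))

omit [Q.Normal] in
theorem inj_conjQ (hFX : FitX Q) (a : Subgroup.centralizer ({(z : X)} : Set X)) (q : Q) :
    inj Q (conjQ hFX a q) = (a : X) * inj Q q * (a : X)⁻¹ :=
  (conj_mem hFX a q).choose_spec

theorem conjQ_eq (hFX : FitX Q) {a : Subgroup.centralizer ({(z : X)} : Set X)}
    {c : Subgroup.centralizer ({z} : Set ↥G₀)} (h : ((c : ↥G₀) : X) = a) (q : Q) :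
    conjQ hFX a q = MulAut.conjNormal c q := inj_injective Q (by rw [inj_conjQ, ← h]; rfl)

variable [Fact (Cfsg.IsExtraspecial 2 Q)]

/-- The linear action of the larger centraliser. -/
noncomputable def psi (hFX : FitX Q) :
    Subgroup.centralizer ({(z : X)} : Set X) →* (OutForm.Vm Q ≃ₗ[ZMod 2] OutForm.Vm Q) :=
  (Subgroup.subtype _).comp ((OutForm.act Q).comp (conjQ hFX))

omit [Q.Normal] in
theorem psi_pr (hFX : FitX Q) (a : Subgroup.centralizer ({(z : X)} : Set X)) (q : Q) :
    psi hFX a (OutForm.pr q) = OutForm.pr (conjQ hFX a q) := OutForm.actLin_pr _ q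

omit [Q.Normal] in
theorem psi_q (hFX : FitX Q) (a : Subgroup.centralizer ({(z : X)} : Set X)) (v : OutForm.Vm Q) :
    OutForm.qf Q (psi hFX a v) = OutForm.qf Q v := ((OutForm.act Q) (conjQ hFX a)).2 v

theorem psi_eq (hFX : FitX Q) {a : Subgroup.centralizer ({(z : X)} : Set X)}
    {c : Subgroup.centralizer ({z} : Set ↥G₀)} (h : ((c : ↥G₀) : X) = a) : psi hFX a = toGL Q c :=
  LinearEquiv.ext fun v => by
    obtain ⟨q, rfl⟩ := OutForm.pr_surjective v
    rw [psi_pr, toGL_pr, conjQ_eq hFX h]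

omit [Q.Normal] in
/-- Acting trivially means lying in the subgroup. -/
theorem psi_inner (hFX : FitX Q) {a : Subgroup.centralizer ({(z : X)} : Set X)} (h : psi hFX a = 1) :
    (a : X) ∈ G₀ := by
  have h' : conjQ hFX a ∈ (OutForm.act Q).ker := Subtype.ext h
  rw [OutForm.ker_eq] at h'
  obtain ⟨q, hq⟩ := h'
  have hqz : inj Q q ∈ Subgroup.centralizer ({(z : X)} : Set X) :=
    Subgroup.mem_centralizer_singleton_iff.2
      (congrArg Subtype.val (Subgroup.mem_centralizer_singleton_iff.1 (q : Subgroup.centralizer ({z} : Set ↥G₀)).2))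
  set b : Subgroup.centralizer ({(z : X)} : Set X) := ⟨_, hqz⟩⁻¹ * a with hb
  have hcent : b ∈ Subgroup.centralizer
      (Cfsg.generalizedFittingSubgroup ↥(Subgroup.centralizer ({(z : X)} : Set X)) : Set _) := by
    refine Subgroup.mem_centralizer_iff.2 fun f hf => Subtype.ext ?_
    have : (f : X) ∈ (inj Q).range := by rw [inj_range, ← hFX]; exact ⟨f, hf, rfl⟩
    obtain ⟨r, hr⟩ := this
    have he : inj Q q * inj Q r * (inj Q q)⁻¹ = (a : X) * inj Q r * (a : X)⁻¹ := by
      rw [← inj_conjQ hFX, ← hq, ← map_inv, ← map_mul, ← map_mul]; rfl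
    show (f : X) * ((inj Q q)⁻¹ * a) = (inj Q q)⁻¹ * a * (f : X)
    rw [← hr]
    calc inj Q r * ((inj Q q)⁻¹ * a) = (inj Q q)⁻¹ * (inj Q q * inj Q r * (inj Q q)⁻¹) * a := by simp [mul_assoc]
      _ = (inj Q q)⁻¹ * a * inj Q r := by rw [he]; simp [mul_assoc]
  have hmem := Symplectic.centralizer_generalizedFitting_le _ hcent
  have : (b : X) ∈ img Q := hFX ▸ ⟨b, hmem, rfl⟩
  obtain ⟨y, -, hy⟩ := this
  have ha : (a : X) = inj Q q * G₀.subtype y := by rw [hy, hb]; simp
  rw [ha]
  exact mul_mem (SetLike.coe_mem ((q : Subgroup.centralizer ({z} : Set ↥G₀)) : ↥G₀)) y.2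

/-- An outer element centralising z and a noncentral involution of Q. -/
theorem exists_outer (hidx : G₀.index = 2) (hF : Cfsg.IsOfLargeFischerTypeAt z Q) (hFX : FitX Q)
    (hcentral : ∃ P : Sylow 2 ↥G₀, z ∈ (P : Subgroup ↥G₀) ∧ ∀ x ∈ (P : Subgroup ↥G₀), Commute x z) :
    ∃ t : Q, OutForm.pr t ≠ 0 ∧ t * t = 1 ∧
      (¬ IsConj z ((t : Subgroup.centralizer ({z} : Set ↥G₀)) : ↥G₀)) ∧
      ∃ c : Subgroup.centralizer ({(z : X)} : Set X), (c : X) ∉ G₀ ∧ (c : X) * inj Q t = inj Q t * (c : X) := by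
  obtain ⟨P, hzP, hPz⟩ := hcentral
  have := Subgroup.normal_of_index_eq_two hidx
  have : Fact (Nat.Prime 2) := ⟨Nat.prime_two⟩
  have hPC : (P : Subgroup ↥G₀) ≤ Subgroup.centralizer ({z} : Set ↥G₀) :=
    fun x hx => Subgroup.mem_centralizer_singleton_iff.2 (hPz x hx).eq
  have hQP : Q ≤ ((P.subtype hPC : Sylow 2 _) : Subgroup _) :=
    IsPGroup.le_sylow_of_normal (Fact.out : Cfsg.IsExtraspecial 2 Q).1.1 _
  have hcenP : ∀ x ∈ (P : Subgroup ↥G₀), (∀ y ∈ (P : Subgroup ↥G₀), y * x = x * y) → x = 1 ∨ x = z := by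
    intro x hx hall
    have hxQ : (⟨x, hPC hx⟩ : Subgroup.centralizer ({z} : Set ↥G₀)) ∈ Q :=
      centralizer_le hF (Subgroup.mem_centralizer_iff.2 fun q hq => Subtype.ext (hall _ (hQP hq)))
    exact center_cases hF (c := (⟨_, hxQ⟩ : Q))
      (Subgroup.mem_center_iff.2 fun r => Subtype.ext (Subtype.ext (hall _ (hQP r.2))))
  obtain ⟨a, haN, haG⟩ : ∃ a, a ∈ Subgroup.normalizer (((P : Subgroup ↥G₀).map G₀.subtype : Subgroup X) : Set X) ∧
      a ∉ G₀ := by
    by_contra h
    push Not at h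
    have h2 := Sylow.normalizer_sup_eq_top P
    rw [sup_eq_right.2 (fun x hx => h x hx)] at h2
    rw [h2, Subgroup.index_top] at hidx
    omega
  have haz : a ∈ Subgroup.centralizer ({(z : X)} : Set X) := by
    have h1 : a * (z : X) * a⁻¹ ∈ (P : Subgroup ↥G₀).map G₀.subtype :=
      (Subgroup.mem_normalizer_iff.1 haN _).1 ⟨z, hzP, rfl⟩
    obtain ⟨x, hx, he⟩ := h1
    have hcen : ∀ y ∈ (P : Subgroup ↥G₀), y * x = x * y := by
      intro y hy
      refine Subtype.ext ?_
      obtain ⟨y', hy', hye⟩ := (Subgroup.mem_normalizer_iff.1 (inv_mem haN) (y : X)).1 ⟨y, hy, rfl⟩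
      have e : (y : X) = a * (y' : X) * a⁻¹ := by rw [show (y' : X) = _ from hye]; simp [mul_assoc]
      show (y : X) * (x : X) = (x : X) * (y : X)
      rw [show (x : X) = a * (z : X) * a⁻¹ from he, e]
      exact ((Commute.conj_iff a).2 (show Commute (y' : X) (z : X) from congrArg Subtype.val (hPz y' hy').eq)).eq
    rcases hcenP x hx hcen with rfl | rfl
    · exfalso
      have : (z : X) = 1 := conj_eq_one_iff.1 (he.symm.trans (map_one _))
      exact (data_of_type hF).z_ne (Subtype.ext this)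
    · exact Subgroup.mem_centralizer_singleton_iff.2 (mul_inv_eq_iff_eq_mul.1 he.symm)
  obtain ⟨t, ht0, ht2, htz⟩ := exists_noncentral hF
  refine ⟨t, ht0, ht2, htz, ?_⟩
  set a' : Subgroup.centralizer ({(z : X)} : Set X) := ⟨a, haz⟩
  set r := conjQ hFX a' t with hr
  have hr0 : OutForm.pr r ≠ 0 := by
    rw [hr, ← psi_pr]
    exact fun h => ht0 ((psi hFX a').map_eq_zero_iff.1 h)
  have hr2 : r * r = 1 := by rw [hr, ← map_mul, ht2, map_one]
  have hrz : ¬ IsConj z ((r : Subgroup.centralizer ({z} : Set ↥G₀)) : ↥G₀) := by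
    intro h
    obtain ⟨g, hg⟩ := isConj_iff.1 h
    have hg' : a⁻¹ * (g : X) * a ∈ G₀ := by simpa using Subgroup.Normal.conj_mem ‹G₀.Normal› _ g.2 a⁻¹
    refine htz (isConj_iff.2 ⟨⟨_, hg'⟩, Subtype.ext ?_⟩)
    show a⁻¹ * (g : X) * a * (z : X) * (a⁻¹ * (g : X) * a)⁻¹ = inj Q t
    have h1 : (g : X) * (z : X) * (g : X)⁻¹ = inj Q r := congrArg Subtype.val hg
    have haz' : a * (z : X) = (z : X) * a := Subgroup.mem_centralizer_singleton_iff.1 haz
    calc a⁻¹ * (g : X) * a * (z : X) * (a⁻¹ * (g : X) * a)⁻¹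
        = a⁻¹ * ((g : X) * (a * (z : X) * a⁻¹) * (g : X)⁻¹) * a := by simp [mul_assoc]
      _ = inj Q t := by
          rw [haz', mul_inv_cancel_right, h1, hr, inj_conjQ]
          simp [a', mul_assoc]
  obtain ⟨k, hk⟩ := noncentral_conj hF ht0 ht2 htz hr0 hr2 hrz
  have hkz : ((k : ↥G₀) : X) ∈ Subgroup.centralizer ({(z : X)} : Set X) :=
    Subgroup.mem_centralizer_singleton_iff.2 (congrArg Subtype.val (Subgroup.mem_centralizer_singleton_iff.1 k.2))
  refine ⟨⟨_, hkz⟩⁻¹ * a', fun h => haG ?_, ?_⟩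
  · have := mul_mem (k : ↥G₀).2 h
    simpa [a'] using this
  · have h1 : ((k : ↥G₀) : X) * inj Q t * ((k : ↥G₀) : X)⁻¹ = a * inj Q t * a⁻¹ := by
      rw [show a * inj Q t * a⁻¹ = inj Q r from (inj_conjQ hFX a' t).symm]
      exact congrArg (fun c : Subgroup.centralizer ({z} : Set ↥G₀) => ((c : ↥G₀) : X)) hk
    show ((k : ↥G₀) : X)⁻¹ * a * inj Q t = inj Q t * (((k : ↥G₀) : X)⁻¹ * a)
    calc ((k : ↥G₀) : X)⁻¹ * a * inj Q t = ((k : ↥G₀) : X)⁻¹ * (a * inj Q t * a⁻¹) * a := by simp [mul_assoc]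
      _ = _ := by rw [← h1]; simp [mul_assoc]

end Cfsg.Agent.LargeFischerOuter
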