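import Cfsg.Agent.Lib.LargeFischer.Setting
import Cfsg.Agent.Lib.LargeFischer.Central
import Cfsg.Agent.Lib.Unitary.Simple

/-!
The scalar and the noncentral involutions for a group of large Fischer type (helper79).

* `zpowers_scalar`, `exists_noncentral`, `noncentral_conj`, `exists_conj_cube`
-/

set_option autoImplicit false
open Cfsg
open scoped commutatorElement

namespace Cfsg.Agent.LargeFischerOuter

open LargeExtraspecial LargeFischer

universe u

variable {G : Type u} [Group G] [Finite G] {z : G} {Q : Subgroup (Subgroup.centralizer ({z} : Set G))}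
  [Q.Normal] [Fact (Cfsg.IsExtraspecial 2 Q)]

omit [Fact (Cfsg.IsExtraspecial 2 Q)] in
theorem centralizer_le (hF : Cfsg.IsOfLargeFischerTypeAt z Q) :
    Subgroup.centralizer (Q : Set (Subgroup.centralizer ({z} : Set G))) ≤ Q := by
  have h := Symplectic.centralizer_generalizedFitting_le ↥(Subgroup.centralizer ({z} : Set G))
  rwa [hF.1.2.1] at h

theorem scalar_normal (S : Setting z Q) : ∀ γ ∈ (toGL Q).range, γ * S.n * γ⁻¹ ∈ Subgroup.zpowers S.n := by
  intro γ hγ
  obtain ⟨A, hA⟩ := S.C.auto γ hγ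
  obtain ⟨s, hs, htw⟩ := A.twist
  refine ⟨(s : ℤ), ?_⟩
  show S.n ^ (s : ℤ) = _
  rw [zpow_natCast, eq_mul_inv_iff_mul_eq]
  refine LinearEquiv.ext fun v => ?_
  obtain ⟨x, hx, rfl⟩ := S.C.M.surj v
  show (S.n ^ s) (γ (S.C.M.e x)) = γ (S.n (S.C.M.e x))
  rw [S.C.M.n_e x hx, ← hA x hx, ← hA _ (nmul_lt' hx), htw x hx]
  rcases hs with rfl | rfl
  · rw [pow_one, S.C.M.n_e _ (A.lt x hx)]; rfl
  · rw [sq, LinearEquiv.mul_apply, S.C.M.n_e _ (A.lt x hx), S.C.M.n_e _ (nmul_lt' (A.lt x hx))]; rfl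

/-- The normal subgroups of order three give the same scalar. -/
theorem zpowers_scalar (hF : Cfsg.IsOfLargeFischerTypeAt z Q) (S : Setting z Q)
    {m : OutForm.Vm Q ≃ₗ[ZMod 2] OutForm.Vm Q} (hm : m ∈ (toGL Q).range) (hm3 : m ^ 3 = 1)
    (hnorm : ∀ γ ∈ (toGL Q).range, γ * m * γ⁻¹ ∈ Subgroup.zpowers m) : m ∈ Subgroup.zpowers S.n := by
  classical
  have hker : (toGL Q).ker = Q := (exists_frame hF).1
  obtain ⟨-, N, M, hNn, hMn, hQN, hNM, hNcard, ⟨K, _, _, hK, ⟨e⟩⟩, hidx⟩ := id hF
  have hsimp : IsSimpleGroup (Cfsg.PSU 4 K 3) :=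
    Unitary.isSimpleGroup_PSU (n := 4) (show Fintype.card K = 3 ^ 2 by rw [hK]; norm_num) (Or.inl le_rfl)
  have hQM : (toGL Q).ker ≤ M := hker.trans_le (hQN.trans hNM)
  -- image of N has order three
  have hQNker : (toGL Q).ker ≤ N := hker.trans_le hQN
  have hcardN : Nat.card (N.map (toGL Q)) = 3 := by
    have h := Subgroup.card_eq_card_quotient_mul_card_subgroup ((toGL Q).comp N.subtype).ker
    have hk : ((toGL Q).comp N.subtype).ker = Q.subgroupOf N := by
      ext x; simp [Subgroup.mem_subgroupOf, ← hker]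
    rw [hk, Nat.card_congr (Subgroup.subgroupOfEquivOfLe hQN).toEquiv, hNcard] at h
    have hq : Nat.card (N ⧸ Q.subgroupOf N) = Nat.card (N.map (toGL Q)) := by
      rw [← hk, Nat.card_congr (QuotientGroup.quotientKerEquivRange _).toEquiv, MonoidHom.range_comp,
        Subgroup.range_subtype]
    rw [hq] at h
    exact Nat.eq_of_mul_eq_mul_right (Nat.card_pos (α := Q)) h.symm
  -- every such element lies in the image of N
  have key : ∀ a, a ∈ (toGL Q).range → a ^ 3 = 1 →
      (∀ γ ∈ (toGL Q).range, γ * a * γ⁻¹ ∈ Subgroup.zpowers a) → a ∈ N.map (toGL Q) := by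
    intro a ha ha3 hn
    set P := (Subgroup.zpowers a).comap (toGL Q) with hP
    have hPn : P.Normal := by
      refine ⟨fun x hx c => ?_⟩
      rw [hP, Subgroup.mem_comap] at hx ⊢
      obtain ⟨k, hk⟩ := Subgroup.mem_zpowers_iff.1 hx
      rw [map_mul, map_mul, map_inv, ← hk, ← conj_zpow]
      exact zpow_mem (hn _ ⟨c, rfl⟩) k
    obtain ⟨c, rfl⟩ := ha
    have hcM : c ∈ M := by
      have h2 := Subgroup.mul_self_mem_of_index_two hidx c
      have h3 : c ^ 3 ∈ M := hQM (by rw [MonoidHom.mem_ker, map_pow, ha3])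
      have : c = (c * c)⁻¹ * c ^ 3 := by group
      rw [this]
      exact mul_mem (inv_mem h2) h3
    let π : ↥M →* Cfsg.PSU 4 K 3 := e.toMonoidHom.comp (QuotientGroup.mk' (N.subgroupOf M))
    have hπ : Function.Surjective π := e.surjective.comp (QuotientGroup.mk'_surjective _)
    have hPim := (Subgroup.Normal.map (inferInstance : (P.subgroupOf M).Normal) π hπ).eq_bot_or_eq_top
    rcases hPim with hb | ht
    · have h1 : π ⟨c, hcM⟩ = 1 := by
        have : π ⟨c, hcM⟩ ∈ (P.subgroupOf M).map π :=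
          ⟨⟨c, hcM⟩, Subgroup.mem_zpowers _, rfl⟩
        rwa [hb, Subgroup.mem_bot] at this
      have h2 : (QuotientGroup.mk' (N.subgroupOf M)) ⟨c, hcM⟩ = 1 := e.injective (h1.trans (map_one e).symm)
      rw [QuotientGroup.mk'_apply, QuotientGroup.eq_one_iff, Subgroup.mem_subgroupOf] at h2
      exact ⟨c, h2, rfl⟩
    · exfalso
      -- the whole of PSU would be the image of an abelian group of order three over the image of Q
      have hall : ∀ y : Cfsg.PSU 4 K 3, ∃ k : ℤ, π ⟨c, hcM⟩ ^ k = y := by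
        intro y
        have hy : y ∈ (P.subgroupOf M).map π := ht ▸ Subgroup.mem_top y
        obtain ⟨p, hp, rfl⟩ := hy
        obtain ⟨k, hk⟩ := Subgroup.mem_zpowers_iff.1 (Subgroup.mem_subgroupOf.1 hp)
        refine ⟨k, ?_⟩
        rw [← map_zpow]
        refine congrArg e (QuotientGroup.eq.2 ?_)
        rw [Subgroup.mem_subgroupOf]
        apply hQNker
        rw [MonoidHom.mem_ker, Subgroup.coe_mul, map_mul, Subgroup.coe_inv, map_inv, Subgroup.coe_zpow, map_zpow,
          hk]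
        exact inv_mul_cancel (toGL Q (p : _))
      have hcomm : ∀ x y : Cfsg.PSU 4 K 3, x * y = y * x := fun x y => by
        obtain ⟨i, rfl⟩ := hall x
        obtain ⟨j, rfl⟩ := hall y
        exact (zpow_mul_comm _ i j)
      let : CommGroup (Cfsg.PSU 4 K 3) := { (inferInstance : Group (Cfsg.PSU 4 K 3)) with mul_comm := hcomm }
      have hp : (Nat.card (Cfsg.PSU 4 K 3)).Prime := IsSimpleGroup.prime_card
      obtain ⟨iso⟩ := StabCert.nonempty_range_permHom (n := 4) (p := 3)
        (show Fintype.card K = 3 ^ 2 by rw [hK]; norm_num) (by norm_num)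
      have hcard := (exists_frame hF).2.1
      have h1 := Subgroup.card_mul_index M
      have h2 := Subgroup.card_eq_card_quotient_mul_card_subgroup (N.subgroupOf M)
      rw [Nat.card_congr e.toEquiv, Nat.card_congr (Subgroup.subgroupOfEquivOfLe hNM).toEquiv, hNcard] at h2
      have h3 := Subgroup.card_eq_card_quotient_mul_card_subgroup (toGL Q).ker
      rw [Nat.card_congr (QuotientGroup.quotientKerEquivRange _).toEquiv, hcard, hker] at h3
      rw [hidx, h2, h3] at h1
      have hQpos : 0 < Nat.card Q := Nat.card_pos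
      have : Nat.card (Cfsg.PSU 4 K 3) = 3265920 := by
        have h4 : Nat.card (Cfsg.PSU 4 K 3) * 6 = 19595520 := by
          refine Nat.eq_of_mul_eq_mul_right hQpos ?_
          linarith
        omega
      rw [this] at hp
      exact absurd hp (by norm_num)
  have hn1 : S.n ≠ 1 := fun h => by
    obtain ⟨x, hx⟩ : ∃ x : OutForm.Vm Q, x ≠ 0 := ⟨S.C.M.e 1, fun h' => by
      have := S.C.M.inj 1 (by norm_num) 0 (by norm_num) (h'.trans S.C.M.zero.symm)
      norm_num at this⟩
    exact hx (S.n_fix x (by rw [h]; rfl))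
  have hle : Subgroup.zpowers S.n ≤ N.map (toGL Q) :=
    Subgroup.zpowers_le.2 (key _ S.n_mem S.n_three (scalar_normal S))
  have : Fact (Nat.Prime 3) := ⟨Nat.prime_three⟩
  have ho : orderOf S.n = 3 := orderOf_eq_prime S.n_three hn1
  have : Finite (N.map (toGL Q) : Subgroup _) := Nat.finite_of_card_ne_zero (by rw [hcardN]; norm_num)
  rw [Subgroup.eq_of_le_of_card_ge hle (by rw [Nat.card_zpowers, ho, hcardN])]
  exact key m hm hm3 hnorm

/-- The type of a noncentral involution. -/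
theorem noncentral_stab (hF : Cfsg.IsOfLargeFischerTypeAt z Q) {q : Q} (hq0 : OutForm.pr q ≠ 0)
    (hq2 : q * q = 1) (hqz : ¬ IsConj z ((q : Subgroup.centralizer ({z} : Set G)) : G)) :
    Nat.card (MulAction.stabilizer (toGL Q).range (OutForm.pr q)) = 51840 := by
  obtain ⟨g, ⟨hgC, hgQ⟩, hgz⟩ := hF.1.2.2.2.2
  obtain ⟨hs0, hqs, hsc, -⟩ := central_facts hF rfl hgz hgC hgQ _ _ rfl rfl
  have hqq : OutForm.qf Q (OutForm.pr q) = 0 := by rw [OutForm.qf_apply, hq2, OutForm.eps_one]
  refine (((stab_type hF).1 _ hq0 hqq).1).resolve_right fun h => hqz ?_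
  obtain ⟨_, ⟨c, rfl⟩, hc⟩ := (stab_type hF).2 _ _ hs0 hqs hq0 hqq (hsc.trans h.symm)
  obtain ⟨k, hk⟩ := exists_conj_lift hq0 hc
  refine isConj_iff.2 ⟨(k : G) * g, ?_⟩
  have := congrArg Subtype.val hk
  simp only [Subgroup.coe_mul, Subgroup.coe_inv] at this
  rw [← this]
  simp [mul_assoc]

/-- Noncentral involutions of Q are conjugate in the centraliser. -/
theorem noncentral_conj (hF : Cfsg.IsOfLargeFischerTypeAt z Q) {q r : Q} (hq0 : OutForm.pr q ≠ 0)
    (hq2 : q * q = 1) (hqz : ¬ IsConj z ((q : Subgroup.centralizer ({z} : Set G)) : G)) (hr0 : OutForm.pr r ≠ 0)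
    (hr2 : r * r = 1) (hrz : ¬ IsConj z ((r : Subgroup.centralizer ({z} : Set G)) : G)) :
    ∃ k : Subgroup.centralizer ({z} : Set G), k * (q : Subgroup.centralizer ({z} : Set G)) * k⁻¹ = r := by
  have h1 : OutForm.qf Q (OutForm.pr q) = 0 := by rw [OutForm.qf_apply, hq2, OutForm.eps_one]
  have h2 : OutForm.qf Q (OutForm.pr r) = 0 := by rw [OutForm.qf_apply, hr2, OutForm.eps_one]
  obtain ⟨_, ⟨c, rfl⟩, hc⟩ := (stab_type hF).2 _ _ hq0 h1 hr0 h2
    ((noncentral_stab hF hq0 hq2 hqz).trans (noncentral_stab hF hr0 hr2 hrz).symm)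
  exact exists_conj_lift hr0 hc

/-- There is a noncentral involution. -/
theorem exists_noncentral (hF : Cfsg.IsOfLargeFischerTypeAt z Q) :
    ∃ q : Q, OutForm.pr q ≠ 0 ∧ q * q = 1 ∧ ¬ IsConj z ((q : Subgroup.centralizer ({z} : Set G)) : G) := by
  obtain ⟨S⟩ := exists_setting hF
  have hq15 : qn 15 = 0 := by decide +kernel
  have hv0 : S.C.M.e 15 ≠ 0 := fun h => by
    have := S.C.M.inj 15 (by norm_num) 0 (by norm_num) (h.trans S.C.M.zero.symm)
    norm_num at this
  have hst := S.stab_card 15 (by norm_num) (by norm_num) hq15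
  rw [if_pos small_fifteen] at hst
  obtain ⟨q, hq⟩ := OutForm.pr_surjective (S.C.M.e 15)
  have hq0 : OutForm.pr q ≠ 0 := hq ▸ hv0
  have hq2 : q * q = 1 := OutForm.eps_inj (OutForm.sq_mem q) (one_mem _) (by
    rw [← OutForm.qf_apply, hq, S.C.M.q_e 15 (by norm_num), hq15, OutForm.eps_one, Nat.cast_zero])
  refine ⟨q, hq0, hq2, fun hz => ?_⟩
  obtain ⟨g, hg⟩ := isConj_iff.1 hz
  have hne : ((q : Subgroup.centralizer ({z} : Set G)) : G) ≠ z := fun h => by
    refine hq0 (OutForm.pr_eq_zero.2 (Subgroup.mem_center_iff.2 fun r => Subtype.ext (Subtype.ext ?_)))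
    show ((r : Subgroup.centralizer ({z} : Set G)) : G) * _ = _ * _
    rw [h]
    exact Subgroup.mem_centralizer_singleton_iff.1 (r : Subgroup.centralizer ({z} : Set G)).2
  obtain ⟨-, -, hc, -⟩ := central_facts hF hg hne (q : Subgroup.centralizer ({z} : Set G)).2 q.2 _ _ rfl rfl
  rw [hq, hst] at hc
  norm_num at hc

/-- Elements of order three over the same image are conjugate by Q. -/
theorem exists_conj_cube (hF : Cfsg.IsOfLargeFischerTypeAt z Q) (S : Setting z Q)
    {y : Subgroup.centralizer ({z} : Set G)} (hy3 : y * y * y = 1) (hδ : y * S.x⁻¹ ∈ Q) :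
    ∃ q : Q, (q : Subgroup.centralizer ({z} : Set G)) * S.x * (q : Subgroup.centralizer ({z} : Set G))⁻¹ = y := by
  let f : OutForm.Vm Q →+ OutForm.Vm Q :=
    { toFun := fun v => v + S.n v
      map_zero' := by simp
      map_add' := fun v w => by rw [map_add]; abel }
  have hfi : Function.Injective f := (injective_iff_map_eq_zero f).2 fun v hv => S.n_fix v
    ((eq_neg_of_add_eq_zero_right (show v + S.n v = 0 from hv)).trans (ZModModule.neg_eq_self v))
  obtain ⟨v, hv⟩ := Finite.injective_iff_surjective.1 hfi (OutForm.pr ⟨y * S.x⁻¹, hδ⟩)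
  obtain ⟨q, rfl⟩ := OutForm.pr_surjective v
  have he : OutForm.pr (q * MulAut.conjNormal S.x q⁻¹) = OutForm.pr ⟨y * S.x⁻¹, hδ⟩ := by
    rw [OutForm.pr_mul, pr_conj, OutForm.pr_inv, S.x_map]; exact hv
  obtain ⟨ζ, hζ, hζe⟩ := OutForm.eq_mul_center he
  have hζc := center_comm hF hζ
  have hqx : (q : Subgroup.centralizer ({z} : Set G)) * S.x * (q : Subgroup.centralizer ({z} : Set G))⁻¹ = y * ζ := by
    have h := congrArg (fun a : Q => (a : Subgroup.centralizer ({z} : Set G))) hζe
    simp only [Subgroup.coe_mul, MulAut.conjNormal_apply, Subgroup.coe_inv] at h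
    have h' := congrArg (· * S.x) h
    simp only [mul_assoc, inv_mul_cancel, mul_one] at h'
    rw [mul_assoc, h', hζc S.x, inv_mul_cancel_left]
  refine ⟨q, ?_⟩
  have hz2 : (ζ : Subgroup.centralizer ({z} : Set G)) * ζ = 1 :=
    congrArg (fun a : Q => (a : Subgroup.centralizer ({z} : Set G))) (OutForm.sq_one_of_center hζ)
  have hζ1 : (ζ : Subgroup.centralizer ({z} : Set G)) = 1 := by
    have e3 : (y * ζ) * (y * ζ) * (y * ζ) = 1 := by
      rw [← hqx]
      calc _ = (q : Subgroup.centralizer ({z} : Set G)) * (S.x * S.x * S.x) *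
            (q : Subgroup.centralizer ({z} : Set G))⁻¹ := by simp [mul_assoc]
        _ = 1 := by rw [S.x_three]; simp
    have hp := (show Commute y (ζ : Subgroup.centralizer ({z} : Set G)) from (hζc y).symm).mul_pow 3
    simp only [pow_succ, pow_zero, one_mul] at hp
    rw [hp, hy3, one_mul, hz2, one_mul] at e3
    exact e3
  rw [hqx, hζ1, mul_one]

end Cfsg.Agent.LargeFischerOuter
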